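import Mathlib.RingTheory.Etale.Field
import Mathlib.FieldTheory.SeparableClosure
import Mathlib.FieldTheory.PrimitiveElement
import Mathlib.RingTheory.AdjoinRoot
import Mathlib.RingTheory.LocalRing.ResidueField.Basic
import Mathlib.RingTheory.Artinian.Module
import Mathlib.RingTheory.KrullDimension.Zero
import Mathlib.RingTheory.HopkinsLevitzki
import Mathlib.RingTheory.Nilpotent.Basic
import Mathlib.LinearAlgebra.Dimension.Constructions

/-!
Separable splitting fields of étale algebras and thick points with a given residue field.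
-/

set_option autoImplicit false
universe u

open TensorProduct Polynomial

namespace Groth.L16.EtaleFibre

/-- An étale algebra over a field has as many points in some finite separable extension as its dimension. -/
theorem exists_separable_points (K : Type u) [Field K] (G : Type u) [CommRing G] [Algebra K G] [Algebra.Etale K G] :
    ∃ (L : Type u) (_ : Field L) (_ : Algebra K L), FiniteDimensional K L ∧ Algebra.IsSeparable K L ∧
      ∃ τ : Fin (Module.finrank K G) → (G →ₐ[K] L), Function.Injective τ := by
  classical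
  let Ω := SeparableClosure K
  haveI : Module.Finite K G := Algebra.FormallyUnramified.finite_of_free K G
  let e := Algebra.FormallyEtale.equivPiOfIsSepClosed Ω (Ω ⊗[K] G)
  haveI : Module.Finite Ω (Ω ⊗[K] G) := inferInstance
  haveI : IsArtinianRing (Ω ⊗[K] G) := isArtinian_of_tower Ω inferInstance
  haveI : Finite (PrimeSpectrum (Ω ⊗[K] G)) := by
    haveI := (inferInstance : IsArtinianRing (Ω ⊗[K] G))
    exact Finite.of_injective (fun p => (IsArtinianRing.primeSpectrumEquivMaximalSpectrum (R := Ω ⊗[K] G)) p)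
      (Equiv.injective _)
  haveI : Fintype (PrimeSpectrum (Ω ⊗[K] G)) := Fintype.ofFinite _
  have hcard : Fintype.card (PrimeSpectrum (Ω ⊗[K] G)) = Module.finrank K G := by
    rw [← Module.finrank_baseChange (R := Ω) (S := K) (M' := G), e.toLinearEquiv.finrank_eq,
      Module.finrank_fintype_fun_eq_card]
  let τΩ : PrimeSpectrum (Ω ⊗[K] G) → (G →ₐ[K] Ω) := fun p =>
    (((Pi.evalAlgHom Ω _ p).comp e.toAlgHom).restrictScalars K).comp Algebra.TensorProduct.includeRight
  have hinj : Function.Injective τΩ := fun p q hpq => by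
    by_contra hne
    have h1 : ((Pi.evalAlgHom Ω _ p).comp e.toAlgHom : Ω ⊗[K] G →ₐ[Ω] Ω) = (Pi.evalAlgHom Ω _ q).comp e.toAlgHom :=
      Algebra.TensorProduct.ext (Subsingleton.elim _ _) hpq
    have h2 := AlgHom.congr_fun h1 (e.symm (Pi.single p 1))
    simp [Ne.symm hne] at h2
  let b := Module.finBasis K G
  let s : Set Ω := Set.range fun x : PrimeSpectrum (Ω ⊗[K] G) × Fin (Module.finrank K G) => τΩ x.1 (b x.2)
  let F := IntermediateField.adjoin K s
  haveI : Finite s := Set.finite_range _ |>.to_subtype
  haveI : FiniteDimensional K F :=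
    IntermediateField.finiteDimensional_adjoin fun x _ => (Algebra.IsSeparable.isIntegral K x)
  have hmem : ∀ p g, τΩ p g ∈ F := fun p g => by
    rw [← b.sum_repr g, map_sum]
    exact sum_mem fun i _ => by
      rw [map_smul]
      exact F.smul_mem (IntermediateField.subset_adjoin K s ⟨(p, i), rfl⟩)
  let σ := (Fintype.equivFinOfCardEq hcard).symm
  refine ⟨F, inferInstance, inferInstance, inferInstance, inferInstance,
    fun i => (τΩ (σ i)).codRestrict F.toSubalgebra (hmem (σ i)), fun i j hij => σ.injective (hinj ?_)⟩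
  ext g
  have h : ((τΩ (σ i)).codRestrict F.toSubalgebra (hmem (σ i))) g =
      ((τΩ (σ j)).codRestrict F.toSubalgebra (hmem (σ j))) g := DFunLike.congr_fun hij g
  exact congrArg Subtype.val (congrArg (fun z : F.toSubalgebra => (z : Ω)) h :)

/-- A local ring has thickened points with a given finite separable residue extension. -/
theorem exists_thick_point (O : Type u) [CommRing O] [IsLocalRing O] [IsNoetherianRing O] (L : Type u) [Field L]
    [Algebra (IsLocalRing.ResidueField O) L] [FiniteDimensional (IsLocalRing.ResidueField O) L]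
    [Algebra.IsSeparable (IsLocalRing.ResidueField O) L] (n : ℕ) :
    ∃ (R : Type u) (_ : CommRing R) (_ : IsArtinianRing R) (_ : IsLocalRing R) (ψ : O →+* R) (ρ : R →+* L),
      Function.Surjective ρ ∧ (∀ r, ρ r = 0 → IsNilpotent r) ∧
      ρ.comp ψ = (algebraMap (IsLocalRing.ResidueField O) L).comp (IsLocalRing.residue O) ∧
      ∀ x, ψ x = 0 → x ∈ IsLocalRing.maximalIdeal O ^ (n + 1) := by
  classical
  let κ := IsLocalRing.ResidueField O
  let res : O →+* κ := IsLocalRing.residue O
  let I := IsLocalRing.maximalIdeal O ^ (n + 1)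
  let On := O ⧸ I
  have hI : I ≤ RingHom.ker res := by
    rw [IsLocalRing.ker_residue]; exact Ideal.pow_le_self n.succ_ne_zero
  let res' : On →+* κ := Ideal.Quotient.lift I res hI
  haveI hOn : IsArtinianRing On := by
    refine isArtinianRing_iff_krullDimLE_zero.2 (Ring.krullDimLE_zero_iff.2 fun P hP => ?_)
    have h1 : IsLocalRing.maximalIdeal O ≤ P.comap (Ideal.Quotient.mk I) :=
      (Ideal.IsPrime.pow_le_iff n.succ_ne_zero).1 ((Ideal.mk_ker (I := I)).ge.trans (Ideal.comap_mono bot_le))
    have h2 : P.comap (Ideal.Quotient.mk I) = IsLocalRing.maximalIdeal O :=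
      ((IsLocalRing.maximalIdeal.isMaximal O).eq_of_le (Ideal.IsPrime.ne_top inferInstance) h1).symm
    rw [← Ideal.map_comap_of_surjective _ Ideal.Quotient.mk_surjective P, h2]
    refine (Ideal.map_eq_top_or_isMaximal_of_surjective _ Ideal.Quotient.mk_surjective
      (IsLocalRing.maximalIdeal.isMaximal O)).resolve_left fun h => hP.ne_top ?_
    rw [← Ideal.map_comap_of_surjective _ Ideal.Quotient.mk_surjective P, h2, h]
  have hnil : ∀ a : On, res' a = 0 → IsNilpotent a := by
    intro a ha
    obtain ⟨a, rfl⟩ := Ideal.Quotient.mk_surjective a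
    refine ⟨n + 1, ?_⟩
    rw [← map_pow, Ideal.Quotient.eq_zero_iff_mem]
    refine Ideal.pow_mem_pow ?_ _
    rw [← IsLocalRing.ker_residue]
    exact ha
  have hsurj : Function.Surjective res' := fun x => by
    obtain ⟨a, rfl⟩ := IsLocalRing.residue_surjective x
    exact ⟨Ideal.Quotient.mk I a, rfl⟩
  obtain ⟨α, hα⟩ := Field.exists_primitive_element κ L
  let g := minpoly κ α
  have hg : g.Monic := minpoly.monic (Algebra.IsIntegral.isIntegral α)
  haveI : Nontrivial On := res'.domain_nontrivial
  obtain ⟨f, hf, -, hfm⟩ := lifts_and_degree_eq_and_monic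
    ((Polynomial.lifts_iff_coeff_lifts g).2 fun i => hsurj (g.coeff i)) hg
  let j : On →+* L := (algebraMap κ L).comp res'
  have hj : f.eval₂ j α = 0 := by
    rw [← Polynomial.eval₂_map, hf]
    exact minpoly.aeval κ α
  haveI : Module.Finite On (AdjoinRoot f) := hfm.finite_adjoinRoot
  haveI : IsArtinianRing (AdjoinRoot f) := isArtinian_of_tower On inferInstance
  let ρ : AdjoinRoot f →+* L := AdjoinRoot.lift j α hj
  have hρ : Function.Surjective ρ := fun x => by
    obtain ⟨p, hp⟩ : ∃ p : κ[X], aeval α p = x := by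
      have : x ∈ Algebra.adjoin κ {α} := by
        rw [← IntermediateField.adjoin_simple_toSubalgebra_of_isAlgebraic (Algebra.IsAlgebraic.isAlgebraic α), hα]
        trivial
      rwa [Algebra.adjoin_singleton_eq_range_aeval] at this
    obtain ⟨q, rfl⟩ := Polynomial.map_surjective res' hsurj p
    refine ⟨AdjoinRoot.mk f q, ?_⟩
    rw [← hp, AdjoinRoot.lift_mk, aeval_def, Polynomial.eval₂_map]
  have hker : ∀ r, ρ r = 0 → IsNilpotent r := by
    intro r hr
    obtain ⟨q, rfl⟩ := AdjoinRoot.mk_surjective r
    rw [AdjoinRoot.lift_mk] at hr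
    have hdvd : g ∣ q.map res' := minpoly.dvd κ α (by rw [aeval_def, Polynomial.eval₂_map]; exact hr)
    obtain ⟨u, hu⟩ := hdvd
    obtain ⟨v, rfl⟩ := Polynomial.map_surjective res' hsurj u
    have h0 : IsNilpotent (q - f * v) := by
      refine Polynomial.isNilpotent_iff.2 fun i => hnil _ ?_
      rw [← Polynomial.coeff_map, Polynomial.map_sub, Polynomial.map_mul, hf, ← hu, sub_self, coeff_zero]
    have h1 := h0.map (AdjoinRoot.mk f)
    rwa [map_sub, map_mul, AdjoinRoot.mk_self, zero_mul, sub_zero] at h1
  haveI : Nontrivial (AdjoinRoot f) := ρ.domain_nontrivial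
  have hloc : IsLocalRing (AdjoinRoot f) := by
    refine IsLocalRing.of_isUnit_or_isUnit_one_sub_self fun a => ?_
    have hu : ∀ a, ρ a ≠ 0 → IsUnit a := fun a ha => by
      obtain ⟨b, hb⟩ := hρ (ρ a)⁻¹
      have h : IsNilpotent (1 - a * b) := hker _ (by rw [map_sub, map_one, map_mul, hb, mul_inv_cancel₀ ha, sub_self])
      have h2 := h.isUnit_one_sub
      rw [sub_sub_cancel] at h2
      exact isUnit_of_mul_isUnit_left h2
    by_cases ha : ρ a = 0
    · exact Or.inr (hu _ (by rw [map_sub, map_one, ha, sub_zero]; exact one_ne_zero))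
    · exact Or.inl (hu a ha)
  refine ⟨AdjoinRoot f, inferInstance, inferInstance, hloc,
    (AdjoinRoot.of f).comp (Ideal.Quotient.mk I), ρ, hρ, hker, ?_, fun x hx => ?_⟩
  · ext x
    exact AdjoinRoot.lift_of hj
  · rw [← Ideal.Quotient.eq_zero_iff_mem]
    have hdeg : f.degree ≠ 0 := fun h => by
      rw [Polynomial.eq_C_of_degree_eq_zero h, Polynomial.map_C] at hf
      have := minpoly.degree_pos (Algebra.IsIntegral.isIntegral (R := κ) α)
      rw [show minpoly κ α = _ from hf.symm] at this
      exact absurd this (not_lt.2 degree_C_le)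
    have hdvd : f ∣ C (Ideal.Quotient.mk I x) := AdjoinRoot.mk_eq_zero.1 ((AdjoinRoot.mk_C _).trans hx)
    have h0 := (modByMonic_eq_zero_iff_dvd hfm).2 hdvd
    have hlt : (C (Ideal.Quotient.mk I x)).degree < f.degree := degree_C_le.trans_lt
      (lt_of_le_of_ne ((zero_le_degree_iff).2 hfm.ne_zero) (Ne.symm hdeg))
    rw [(modByMonic_eq_self_iff hfm).2 hlt, C_eq_zero] at h0
    exact h0

end Groth.L16.EtaleFibre
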