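import Mathlib.AlgebraicGeometry.Morphisms.Proper
import Mathlib.AlgebraicGeometry.Morphisms.Flat
import Mathlib.AlgebraicGeometry.Pullbacks
import Groth.Prelude.Def_ega3
import Groth.Agent.L16.EtaleFibre.ResExt

/-!
Clopen pieces of proper flat thickenings from separable points of the functions on the fibre.
-/

set_option autoImplicit false
universe u

open CategoryTheory CategoryTheory.Limits AlgebraicGeometry TopologicalSpace Opposite TensorProduct

namespace Groth.L16.EtaleFibre

/-- The indicator function of a clopen set. -/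
theorem exists_indicator {Z : Scheme.{u}} (U W : Z.Opens) (hd : U ⊓ W = ⊥) (hc : U ⊔ W = ⊤) :
    ∃ e : Γ(Z, ⊤), Z.presheaf.map (homOfLE (le_top : U ≤ ⊤)).op e = 1 ∧
      Z.presheaf.map (homOfLE (le_top : W ≤ ⊤)).op e = 0 := by
  let V : Bool → Z.Opens := fun b => if b then U else W
  let s : ∀ b, Γ(Z, V b) := fun b => Bool.rec 0 1 b
  have hcompat : TopCat.Presheaf.IsCompatible Z.sheaf.obj V s := by
    intro i j
    cases i <;> cases j
    · rfl
    · haveI : Subsingleton Γ(Z, W ⊓ U) := by rw [inf_comm, hd]; infer_instance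
      exact Subsingleton.elim (α := Γ(Z, W ⊓ U)) _ _
    · haveI : Subsingleton Γ(Z, U ⊓ W) := by rw [hd]; infer_instance
      exact Subsingleton.elim (α := Γ(Z, U ⊓ W)) _ _
    · rfl
  obtain ⟨e, he, -⟩ := TopCat.Sheaf.existsUnique_gluing' Z.sheaf V ⊤ (fun b => homOfLE le_top)
    (by rw [← hc]; exact sup_le (le_iSup V true) (le_iSup V false)) s hcompat
  exact ⟨e, he true, he false⟩

/-- Over a one point affine base, functions act faithfully on every nonempty open of a flat scheme. -/
theorem eq_zero_of_res_eq_zero {R : CommRingCat.{u}} [IsLocalRing R] [Subsingleton ↥(Spec R)] {Z : Scheme.{u}}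
    (f : Z ⟶ Spec R) [Flat f] (U : Z.Opens) (hU : (U : Set Z).Nonempty) (r : Γ(Spec R, ⊤))
    (h : Z.presheaf.map (homOfLE (le_top : U ≤ ⊤)).op (f.appTop r) = 0) : r = 0 := by
  obtain ⟨z, hz⟩ := hU
  have h1 : f.stalkMap z ((Spec R).presheaf.germ ⊤ (f z) trivial r) = 0 := by
    rw [Scheme.Hom.germ_stalkMap_apply]
    show Z.presheaf.germ ⊤ z trivial (f.appTop r) = 0
    rw [← TopCat.Presheaf.germ_res_apply Z.presheaf (homOfLE (le_top : U ≤ ⊤)) z hz, h, map_zero]
  have hfl : (f.stalkMap z).hom.Flat := Flat.stalkMap f z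
  letI := (f.stalkMap z).hom.toAlgebra
  haveI : Module.Flat ((Spec R).presheaf.stalk (f z)) (Z.presheaf.stalk z) := hfl
  haveI : IsLocalHom (algebraMap ((Spec R).presheaf.stalk (f z)) (Z.presheaf.stalk z)) :=
    inferInstanceAs (IsLocalHom (f.stalkMap z).hom)
  haveI := Module.FaithfullyFlat.of_flat_of_isLocalHom (A := (Spec R).presheaf.stalk (f z))
    (B := Z.presheaf.stalk z)
  have h2 : (Spec R).presheaf.germ ⊤ (f z) trivial r = 0 :=
    FaithfulSMul.algebraMap_injective ((Spec R).presheaf.stalk (f z)) (Z.presheaf.stalk z) (h1.trans (map_zero _).symm)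
  obtain ⟨W, hzW, i, i', hW⟩ := TopCat.Presheaf.germ_eq (Spec R).presheaf (U := ⊤) (V := ⊤) (f z) trivial trivial r (0 : Γ(Spec R, ⊤))
    (h2.trans (map_zero _).symm)
  obtain rfl : W = ⊤ := top_unique fun x _ => Subsingleton.elim (f z) x ▸ hzW
  rw [Subsingleton.elim i (𝟙 _), Subsingleton.elim i' (𝟙 _)] at hW
  simpa using hW

variable {X S : Scheme.{u}} (f : X ⟶ S) [IsProper f] (s : S)

/-- A point of the fibre functions in a field extension is seen by clopen pieces of the base changed fibre. -/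
theorem exists_clopens (L : Type u) [Field L] [Algebra (S.residueField s) L]
    [Module.Finite (S.residueField s) Γ(f.fiber s, ⊤)] {m : ℕ}
    (τ : Fin m → (Γ(f.fiber s, ⊤) →ₐ[S.residueField s] L)) (hτ : Function.Injective τ) :
    ∃ U : Fin m → Set ↥(pullback (f.fiberToSpecResidueField s)
        (Spec.map (CommRingCat.ofHom (algebraMap (S.residueField s) L)))),
      (∀ i, IsClopen (U i) ∧ (U i).Nonempty) ∧ Pairwise (Function.onFun Disjoint U) := by
  classical
  let κ := S.residueField s
  let G := Γ(f.fiber s, ⊤)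
  let f₀ := f.fiberToSpecResidueField s
  let a : Spec (CommRingCat.of L) ⟶ Spec κ := Spec.map (CommRingCat.ofHom (algebraMap κ L))
  let φ : Spec G ⟶ Spec κ := Spec.map (CommRingCat.ofHom (algebraMap κ G))
  haveI : IsProper f₀ := MorphismProperty.of_isPullback (IsPullback.of_hasPullback f (S.fromSpecResidueField s)) inferInstance
  haveI : CompactSpace (f.fiber s) := (quasiCompact_iff_compactSpace f₀).mp inferInstance
  let σ := (f.fiber s).toSpecΓ
  have hfac : σ ≫ φ = f₀ := by
    show σ ≫ Spec.map ((Scheme.ΓSpecIso κ).inv ≫ f₀.appTop) = f₀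
    rw [Spec.map_comp, ← Category.assoc, ← Scheme.toSpecΓ_naturality, Category.assoc,
      ← SpecMap_ΓSpecIso_hom, ← Spec.map_comp, Iso.inv_hom_id, Spec.map_id, Category.comp_id]
  haveI : UniversallyClosed (σ ≫ φ) := by rw [hfac]; infer_instance
  haveI : UniversallyClosed σ := UniversallyClosed.of_comp_of_isSeparated σ φ
  haveI : Surjective σ := ⟨Set.range_eq_univ.1 (σ.isClosedMap.isClosed_range.closure_eq.symm.trans
    σ.denseRange.closure_eq)⟩
  let sq := IsPullback.of_hasPullback φ a
  let w : pullback f₀ a ⟶ pullback φ a := sq.lift (pullback.fst f₀ a ≫ σ) (pullback.snd f₀ a)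
    (by rw [Category.assoc, hfac]; exact pullback.condition)
  have hsq : IsPullback (pullback.fst f₀ a) w σ (pullback.fst φ a) :=
    IsPullback.of_bot (by
      rw [hfac, sq.lift_snd]
      exact IsPullback.of_hasPullback f₀ a) (sq.lift_fst _ _ _).symm sq
  haveI : Surjective w := MorphismProperty.of_isPullback (P := @Surjective) hsq inferInstance
  let e := pullbackSpecIso κ G L
  haveI : IsArtinianRing (L ⊗[κ] G) := isArtinian_of_tower L inferInstance
  haveI : IsArtinianRing (G ⊗[κ] L) := (Algebra.TensorProduct.comm κ L G).toRingEquiv.surjective.isArtinianRing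
  let h : pullback f₀ a ⟶ Spec (CommRingCat.of (G ⊗[κ] L)) := w ≫ e.hom
  let π : Fin m → (G ⊗[κ] L →+* L) := fun i =>
    (Algebra.TensorProduct.lift (τ i) (AlgHom.id κ L) fun _ _ => Commute.all _ _).toRingHom
  let p : Fin m → PrimeSpectrum (G ⊗[κ] L) := fun i => ⟨RingHom.ker (π i), RingHom.ker_isPrime _⟩
  have hp : Function.Injective p := fun i j hij => hτ (by
    ext g
    have h1 : g ⊗ₜ[κ] (1 : L) - (1 : G) ⊗ₜ[κ] (τ i g) ∈ (p i).asIdeal := by
      simp [p, π, RingHom.mem_ker]
    rw [hij] at h1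
    simp [p, π, RingHom.mem_ker] at h1
    exact (sub_eq_zero.1 h1).symm)
  haveI : DiscreteTopology ↥(Spec (CommRingCat.of (G ⊗[κ] L))) :=
    inferInstanceAs (DiscreteTopology (PrimeSpectrum (G ⊗[κ] L)))
  refine ⟨fun i => h ⁻¹' {p i}, fun i => ⟨(isClopen_discrete _).preimage h.continuous, ?_⟩, fun i j hij => ?_⟩
  · obtain ⟨x, hx⟩ := h.surjective (p i)
    exact ⟨x, hx⟩
  · exact Disjoint.preimage _ (Set.disjoint_singleton.2 fun hne => hij (hp hne))

/-- Thick points carry as many independent functions as the separable points of the fibre functions. -/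
theorem exists_independent [Flat f] (R : CommRingCat.{u}) [IsLocalRing R] (ψ : S.presheaf.stalk s ⟶ R)
    (L : Type u) [Field L] [Algebra (S.residueField s) L] (ρ : R →+* L) (hρs : Function.Surjective ρ)
    (hρn : ∀ r, ρ r = 0 → IsNilpotent r)
    (hρ : ψ ≫ CommRingCat.ofHom ρ = S.residue s ≫ CommRingCat.ofHom (algebraMap (S.residueField s) L))
    [Module.Finite (S.residueField s) Γ(f.fiber s, ⊤)] {m : ℕ}
    (τ : Fin m → (Γ(f.fiber s, ⊤) →ₐ[S.residueField s] L)) (hτ : Function.Injective τ)
    {X' : Scheme.{u}} {f' : X' ⟶ Spec R} {g' : X' ⟶ X}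
    (sq : IsPullback g' f' f (Spec.map ψ ≫ S.fromSpecStalk s)) :
    ∃ e : Fin m → Γ(X', ⊤), ∀ v : Fin m → Γ(Spec R, ⊤), ∑ i, f'.appTop (v i) * e i = 0 → v = 0 := by
  classical
  obtain ⟨U, hU, hdis⟩ := exists_clopens f s L τ hτ
  let a : Spec (CommRingCat.of L) ⟶ Spec (S.residueField s) :=
    Spec.map (CommRingCat.ofHom (algebraMap (S.residueField s) L))
  let c : Spec (CommRingCat.of L) ⟶ Spec R := Spec.map (CommRingCat.ofHom ρ)
  haveI : IsClosedImmersion c := IsClosedImmersion.spec_of_surjective _ hρs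
  have hone : ∀ x : PrimeSpectrum R, x.asIdeal = RingHom.ker ρ := fun x => by
    haveI : (RingHom.ker ρ).IsMaximal := RingHom.ker_isMaximal_of_surjective ρ hρs
    exact ((‹(RingHom.ker ρ).IsMaximal›).eq_of_le x.2.ne_top fun r hr =>
      nilradical_le_prime x.asIdeal (mem_nilradical.2 (hρn r hr))).symm
  haveI : Subsingleton ↥(Spec R) := ⟨fun x y => PrimeSpectrum.ext ((hone x).trans (hone y).symm)⟩
  haveI : Surjective c := ⟨fun x => ⟨⟨⊥, Ideal.isPrime_bot⟩, Subsingleton.elim _ _⟩⟩
  have hg : c ≫ (Spec.map ψ ≫ S.fromSpecStalk s) = a ≫ S.fromSpecResidueField s := by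
    show Spec.map _ ≫ Spec.map ψ ≫ _ = Spec.map _ ≫ Spec.map (S.residue s) ≫ _
    rw [← Category.assoc, ← Category.assoc, ← Spec.map_comp, ← Spec.map_comp, hρ]
  let f₀ := f.fiberToSpecResidueField s
  have sL : IsPullback (pullback.fst f₀ a ≫ f.fiberι s) (pullback.snd f₀ a) f (a ≫ S.fromSpecResidueField s) :=
    (IsPullback.of_hasPullback f₀ a).paste_horiz (IsPullback.of_hasPullback f (S.fromSpecResidueField s))
  rw [← hg] at sL
  let j : pullback f₀ a ⟶ X' := sq.lift (pullback.fst f₀ a ≫ f.fiberι s) (pullback.snd f₀ a ≫ c)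
    (by rw [sL.w, Category.assoc])
  have hj : IsPullback j (pullback.snd f₀ a) f' c :=
    IsPullback.of_right (by rw [sq.lift_fst]; exact sL) (sq.lift_snd _ _ _) sq
  haveI : Flat f' := MorphismProperty.of_isPullback sq inferInstance
  haveI : IsClosedImmersion j := MorphismProperty.of_isPullback (P := @IsClosedImmersion) hj.flip inferInstance
  haveI : Surjective j := MorphismProperty.of_isPullback (P := @Surjective) hj.flip inferInstance
  have hje := j.isClosedEmbedding
  have hbij : Function.Bijective j := ⟨hje.injective, j.surjective⟩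
  have hcl : ∀ i, IsClopen (j '' U i) := fun i => by
    refine ⟨hje.isClosedMap _ (hU i).1.1, ?_⟩
    rw [← isClosed_compl_iff, ← Set.image_compl_eq hbij]
    exact hje.isClosedMap _ (hU i).1.2.isClosed_compl
  let O : Fin m → X'.Opens := fun i => ⟨j '' U i, (hcl i).2⟩
  let O' : Fin m → X'.Opens := fun i => ⟨(j '' U i)ᶜ, (hcl i).1.isOpen_compl⟩
  choose e he1 he0 using fun i => exists_indicator (O i) (O' i)
    (Opens.ext (Set.inter_compl_self _)) (Opens.ext (Set.union_compl_self _))
  refine ⟨e, fun v hv => funext fun i => ?_⟩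
  refine eq_zero_of_res_eq_zero f' (O i) ((hU i).2.image j) (v i) ?_
  let res := (X'.presheaf.map (homOfLE (le_top : O i ≤ ⊤)).op).hom
  have h := congrArg res hv
  rw [map_sum, map_zero, Finset.sum_eq_single i, map_mul] at h
  · rwa [show res (e i) = 1 from he1 i, mul_one] at h
  · intro k _ hk
    have hle : O i ≤ O' k := fun x hx hx' =>
      ((Set.disjoint_image_iff hje.injective).2 (hdis hk)).le_bot ⟨hx', hx⟩
    have : res (e k) = 0 := by
      have h0 := congrArg (X'.presheaf.map (homOfLE hle).op) (he0 k)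
      rw [map_zero, ← CommRingCat.comp_apply, ← Functor.map_comp] at h0
      exact h0
    rw [map_mul, this, mul_zero]
  · intro h'; exact absurd (Finset.mem_univ i) h'

end Groth.L16.EtaleFibre
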