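import Groth.Agent.L17.BC.Bc0Apply
import Groth.Agent.L29.LocFree
import Groth.Agent.L18.LocFreeFP
import Mathlib.LinearAlgebra.Matrix.ToLin
import Mathlib.LinearAlgebra.Matrix.BaseChange
import Mathlib.LinearAlgebra.Matrix.Rank

/-!
Global functions of base changes as classes of a matrix complex.
-/

set_option autoImplicit false
set_option linter.style.haveILetI false
set_option linter.unusedSectionVars false
set_option backward.isDefEq.respectTransparency false
universe u

open CategoryTheory CategoryTheory.Limits AlgebraicGeometry TopologicalSpace Opposite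
open scoped TensorProduct

noncomputable section

namespace Groth.L16.EtaleFibre

open Groth.L17.BC.Classes (Sq FreeBC0)

variable {X S : Scheme.{u}}

/-- Sections of the pulled back structure module on a base change are functions. -/
theorem exists_sections_equiv {X' S' : Scheme.{u}} (f' : X' ⟶ S') (g' : X' ⟶ X) :
    ∃ Ξ : Γ((Scheme.Modules.pushforward f').obj ((Scheme.Modules.pullback g').obj (Coh.structureModule X)), ⊤) ≃+
        Γ(X', ⊤), ∀ (b : Γ(S', ⊤)) t, Ξ (b • t) = f'.appTop b * Ξ t := by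
  let e : Γ((Scheme.Modules.pullback g').obj (Coh.structureModule X), ⊤) ≃+ Γ(X', ⊤) :=
    ((Scheme.Modules.toPresheaf X' ⋙ (evaluation _ _).obj (op ⊤)).mapIso
      (Groth.L29.LocFree.pullbackUnitIso g')).addCommGroupIsoToAddEquiv
  exact ⟨e, fun b t => ((Groth.L29.LocFree.pullbackUnitIso g').hom.app_smul (f'.appTop b) t)⟩

variable {f : X ⟶ S} [IsProper f] [LocallyOfFinitePresentation f] [HasInjectiveResolutions X.Modules]
  {F : X.Modules} [Coh.IsQCoh F] {V : S.Opens}

/-- The two differentials in degree zero as matrices, with cycles modulo boundaries computing sections. -/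
theorem exists_matrices [Nontrivial Γ(S, V)] (l : FreeBC0 f F V) :
    ∃ (a a₀ b : ℕ) (M : Matrix (Fin b) (Fin a) Γ(S, V)) (M' : Matrix (Fin a) (Fin a₀) Γ(S, V)), M * M' = 0 ∧
      ((∀ r : Γ(S, V), ∀ σ : Matrix (Fin a) (Fin b) Γ(S, V), M * σ * M = r • M →
        ∀ x : PrimeSpectrum Γ(S, V), r ∉ x.asIdeal →
          Groth.L17.BC.SplitAt (l.free.L.d ((0 : ℕ) : ℤ) (((0 : ℕ) : ℤ) + 1)).hom x)) ∧
      (∀ x : PrimeSpectrum Γ(S, V), Groth.L17.BC.SplitAt (l.free.L.d ((0 : ℕ) : ℤ) (((0 : ℕ) : ℤ) + 1)).hom x →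
        ∃ (r : Γ(S, V)) (σ : Matrix (Fin a) (Fin b) Γ(S, V)), r ∉ x.asIdeal ∧ M * σ * M = r • M) ∧
      (∀ (hV : IsAffineOpen V) (y : S) (hy : y ∈ V), ∃ (r : Γ(S, V)) (σ : Matrix (Fin a₀) (Fin a) Γ(S, V)),
        r ∉ (hV.primeIdealOf ⟨y, hy⟩).asIdeal ∧ M' * σ * M' = r • M') ∧
      ∀ {X' S' : Scheme.{u}} {g : S' ⟶ S} {f' : X' ⟶ S'} {g' : X' ⟶ X} (q : Sq f g f' g' V ⊤),
        ∃ Θ : LinearMap.ker (M.map q.φ.hom).mulVecLin →ₗ[Γ(S', ⊤)]
            Γ((Scheme.Modules.pushforward f').obj ((Scheme.Modules.pullback g').obj F), ⊤),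
          Function.Surjective Θ ∧ ∀ z, Θ z = 0 ↔ ∃ u, (M'.map q.φ.hom).mulVec u = z.1 := by
  classical
  let L := l.free.L
  haveI := fun i => l.free.finite i
  haveI := fun i => l.free.free i
  let bP := Module.finBasis Γ(S, V) (L.X ((0 : ℕ) : ℤ))
  let b₀ := Module.finBasis Γ(S, V) (L.X (((0 : ℕ) : ℤ) - 1))
  let b₂ := Module.finBasis Γ(S, V) (L.X (((0 : ℕ) : ℤ) + 1))
  let d := (L.d ((0 : ℕ) : ℤ) (((0 : ℕ) : ℤ) + 1)).hom
  let d' := (L.d (((0 : ℕ) : ℤ) - 1) ((0 : ℕ) : ℤ)).hom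
  refine ⟨_, _, _, LinearMap.toMatrix bP b₂ d, LinearMap.toMatrix b₀ bP d', ?_, ?_, ?_, ?_, ?_⟩
  · rw [← LinearMap.toMatrix_comp, show d ∘ₗ d' = 0 from
      LinearMap.ext fun x => Groth.L17.BC.Transfer.dd_zero L _ _ _ x, map_zero]
  · intro r σ hσ x hx
    refine ⟨r, Matrix.toLin b₂ bP σ, hx, fun v => ?_⟩
    have h : d ∘ₗ Matrix.toLin b₂ bP σ ∘ₗ d = r • d := by
      apply (LinearMap.toMatrix bP b₂).injective
      rw [LinearMap.toMatrix_comp bP bP b₂, LinearMap.toMatrix_comp bP b₂ bP, LinearMap.toMatrix_toLin,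
        map_smul, ← Matrix.mul_assoc, hσ]
    exact LinearMap.congr_fun h v
  · intro x ⟨r, σ, hr, hσ⟩
    refine ⟨r, LinearMap.toMatrix b₂ bP σ, hr, ?_⟩
    rw [← LinearMap.toMatrix_comp, ← LinearMap.toMatrix_comp, ← map_smul]
    exact congrArg _ (LinearMap.ext hσ)
  · intro hV y hy
    have tr : ∀ i j : ℤ, i = -1 → j = 0 →
        Groth.L17.BC.SplitAt (L.d i j).hom (hV.primeIdealOf ⟨y, hy⟩) := by
      rintro _ _ rfl rfl; exact l.neg hV y hy
    obtain ⟨r, σ, hr, hσ⟩ := tr (((0 : ℕ) : ℤ) - 1) ((0 : ℕ) : ℤ) (by norm_num) (by norm_num)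
    refine ⟨r, LinearMap.toMatrix bP b₀ σ, hr, ?_⟩
    rw [← LinearMap.toMatrix_comp, ← LinearMap.toMatrix_comp, ← map_smul]
    exact congrArg _ (LinearMap.ext hσ)
  · intro X' S' g f' g' q
    letI : Algebra Γ(S, V) Γ(S', ⊤) := q.φ.hom.toAlgebra
    letI : Module Γ(S, V) Γ((Scheme.Modules.pushforward f').obj ((Scheme.Modules.pullback g').obj F), ⊤) :=
      Module.compHom _ (algebraMap Γ(S, V) Γ(S', ⊤))
    obtain ⟨ψl, -, ⟨D⟩⟩ := l.data q rfl
    let B := Γ(S', ⊤)
    let eP := (Algebra.TensorProduct.basis B bP).equivFun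
    let e₀ := (Algebra.TensorProduct.basis B b₀).equivFun
    let e₂ := (Algebra.TensorProduct.basis B b₂).equivFun
    have hd : ∀ t, e₂ (d.baseChange B t) = ((LinearMap.toMatrix bP b₂ d).map q.φ.hom).mulVec (eP t) := fun t => by
      rw [show ((LinearMap.toMatrix bP b₂ d).map q.φ.hom) =
        LinearMap.toMatrix (Algebra.TensorProduct.basis B bP) (Algebra.TensorProduct.basis B b₂) (d.baseChange B) from
          (LinearMap.toMatrix_baseChange (A := B) d bP b₂).symm]
      exact (LinearMap.toMatrix_mulVec_repr (Algebra.TensorProduct.basis B bP) (Algebra.TensorProduct.basis B b₂) _ t).symm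
    have hd' : ∀ t, eP (d'.baseChange B t) = ((LinearMap.toMatrix b₀ bP d').map q.φ.hom).mulVec (e₀ t) := fun t => by
      rw [show ((LinearMap.toMatrix b₀ bP d').map q.φ.hom) =
        LinearMap.toMatrix (Algebra.TensorProduct.basis B b₀) (Algebra.TensorProduct.basis B bP) (d'.baseChange B) from
          (LinearMap.toMatrix_baseChange (A := B) d' b₀ bP).symm]
      exact (LinearMap.toMatrix_mulVec_repr (Algebra.TensorProduct.basis B b₀) (Algebra.TensorProduct.basis B bP) _ t).symm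
    let c : LinearMap.ker ((LinearMap.toMatrix bP b₂ d).map q.φ.hom).mulVecLin →ₗ[B]
        LinearMap.ker (d.baseChange B) :=
      LinearMap.codRestrict _ (eP.symm.toLinearMap ∘ₗ Submodule.subtype _) fun z => by
        refine LinearMap.mem_ker.2 (e₂.injective ?_)
        rw [hd, map_zero]
        show Matrix.mulVec _ (eP (eP.symm z.1)) = 0
        rw [LinearEquiv.apply_symm_apply]
        exact z.2
    refine ⟨D.θ' ∘ₗ c, fun t => ?_, fun z => ?_⟩
    · obtain ⟨w, rfl⟩ := D.θ'_surj t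
      refine ⟨⟨eP w.1, ?_⟩, ?_⟩
      · rw [LinearMap.mem_ker, Matrix.mulVecLin_apply, ← hd, show d.baseChange B w.1 = 0 from w.2, map_zero]
      · exact congrArg D.θ' (Subtype.ext (eP.symm_apply_apply w.1))
    · rw [LinearMap.comp_apply, D.θ'_ker]
      constructor
      · rintro ⟨u, hu⟩
        refine ⟨e₀ u, ?_⟩
        rw [← hd', hu]
        exact eP.apply_symm_apply z.1
      · rintro ⟨u, hu⟩
        refine ⟨e₀.symm u, eP.injective ?_⟩
        rw [hd', LinearEquiv.apply_symm_apply, hu]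
        exact (eP.apply_symm_apply z.1).symm

/-- The rank identity at a field valued point. -/
theorem rank_add_rank_add {K : Type u} [Field K] {a a₀ b : ℕ} (M : Matrix (Fin b) (Fin a) K)
    (M' : Matrix (Fin a) (Fin a₀) K) {T : Type u} [AddCommGroup T] [Module K T]
    (hMM' : M * M' = 0) (Θ : LinearMap.ker M.mulVecLin →ₗ[K] T) (hs : Function.Surjective Θ)
    (hk : ∀ z, Θ z = 0 ↔ ∃ u, M'.mulVec u = z.1) :
    M.rank + M'.rank + Module.finrank K T = Fintype.card (Fin a) := by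
  have h1 := Θ.finrank_range_add_finrank_ker
  have h2 := M.mulVecLin.finrank_range_add_finrank_ker
  rw [LinearMap.range_eq_top.2 hs, finrank_top] at h1
  have h3 : (LinearMap.ker Θ).map (LinearMap.ker M.mulVecLin).subtype = LinearMap.range M'.mulVecLin := by
    ext v
    constructor
    · rintro ⟨z, hz, rfl⟩
      exact (hk z).1 hz
    · rintro ⟨u, rfl⟩
      refine ⟨⟨M'.mulVecLin u, ?_⟩, (hk _).2 ⟨u, rfl⟩, rfl⟩
      show M.mulVec (M'.mulVec u) = 0
      rw [Matrix.mulVec_mulVec, hMM', Matrix.zero_mulVec]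
  have h4 : Module.finrank K (LinearMap.ker Θ) = M'.rank := by
    rw [← Submodule.finrank_map_subtype_eq, h3]
    rfl
  have h5 : M.rank = Module.finrank K (LinearMap.range M.mulVecLin) := rfl
  rw [Module.finrank_fintype_fun_eq_card] at h2
  omega

end Groth.L16.EtaleFibre
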