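import Groth.Agent.L16.EtaleFibre.Minor
import Groth.Agent.L16.EtaleFibre.Clopen
import Groth.Agent.L16.EtaleFibre.Sections
import Groth.Agent.L20.DescLocus.AppIso
import Mathlib.AlgebraicGeometry.Noetherian

/-!
An étale algebra of functions on a fibre commutes with base change.
-/

set_option autoImplicit false
set_option linter.style.haveILetI false
set_option backward.isDefEq.respectTransparency false
universe u

open CategoryTheory CategoryTheory.Limits AlgebraicGeometry TopologicalSpace Opposite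
open Groth.L17 Groth.L17.BC Groth.L17.BC.Classes

noncomputable section

namespace Groth.L16.EtaleFibre

variable {X S : Scheme.{u}}

theorem isFP_structure : CohB1.IsFP (Coh.structureModule X) :=
  Groth.L18.LFP.isFP_of_isFinLocFree _
    (Groth.L16.Existence.isFinLocFree_of_isInvertible (Groth.L18.Ample.isInvertible_structureModule _))

theorem isFlatOver_structure (f : X ⟶ S) [Flat f] : FlatMod.IsFlatOver f (Coh.structureModule X) := fun x => by
  letI := (f.stalkMap x).hom.toAlgebra
  letI := FlatMod.moduleStalkOver f (Coh.structureModule X) x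
  haveI : IsScalarTower (S.presheaf.stalk (f x)) (X.presheaf.stalk x) ((Coh.structureModule X).presheaf.stalk x) :=
    IsScalarTower.of_algebraMap_smul fun _ _ => rfl
  haveI : Module.Flat (S.presheaf.stalk (f x)) (X.presheaf.stalk x) := Flat.stalkMap f x
  haveI : Module.Flat (X.presheaf.stalk x) ((Coh.structureModule X).presheaf.stalk x) :=
    Groth.L29.DC.isFlat_of_isFinLocFree
      (Groth.L16.Existence.isFinLocFree_of_isInvertible (Groth.L18.Ample.isInvertible_structureModule X)) x
  exact Module.Flat.trans (S.presheaf.stalk (f x)) (X.presheaf.stalk x) ((Coh.structureModule X).presheaf.stalk x)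

theorem isQCoh_structure : Coh.IsQCoh (Coh.structureModule X) :=
  Groth.L29.DC.PCQCoh.isQCoh_of_isFinLocFree
    (Groth.L16.Existence.isFinLocFree_of_isInvertible (Groth.L18.Ample.isInvertible_structureModule _))

/-- The map on functions of a thickened point. -/
theorem appLE_thickPoint {V : S.Opens} {s : S} (hs : s ∈ V) {R : CommRingCat.{u}} (ψ : S.presheaf.stalk s ⟶ R)
    (hle : (⊤ : (Spec R).Opens) ≤ (Spec.map ψ ≫ S.fromSpecStalk s) ⁻¹ᵁ V) :
    (Spec.map ψ ≫ S.fromSpecStalk s).appLE V ⊤ hle =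
      S.presheaf.germ V s hs ≫ ψ ≫ (Scheme.ΓSpecIso R).inv := by
  have hle' : (⊤ : (Spec (S.presheaf.stalk s)).Opens) ≤ S.fromSpecStalk s ⁻¹ᵁ V := fun z _ => by
    have hmem : S.fromSpecStalk s z ∈ Set.range (S.fromSpecStalk s) := ⟨_, rfl⟩
    rw [Scheme.range_fromSpecStalk] at hmem
    exact (show _ ⤳ s from hmem).mem_open V.2 hs
  rw [← Scheme.Hom.appLE_comp_appLE (Spec.map ψ) (S.fromSpecStalk s) V ⊤ ⊤ hle' le_top]
  have h1 : (S.fromSpecStalk s).appLE V ⊤ hle' =
      S.presheaf.germ V s hs ≫ (Scheme.ΓSpecIso (S.presheaf.stalk s)).inv := by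
    rw [Scheme.Hom.appLE, Scheme.fromSpecStalk_app hs]
    simp only [Category.assoc]
    erw [← Functor.map_comp]
    rw [Subsingleton.elim (_ ≫ _ : op (⊤ : (Spec (S.presheaf.stalk s)).Opens) ⟶ op ⊤) (𝟙 _),
      CategoryTheory.Functor.map_id, Category.comp_id]
  have h2 : (Spec.map ψ).appLE ⊤ ⊤ le_top = (Spec.map ψ).appTop := (Spec.map ψ).appLE_eq_app
  rw [h1, h2, Category.assoc, ← Scheme.ΓSpecIso_inv_naturality]

/-- Étale functions on a fibre make the degree zero differential split there. -/
theorem split_of_etale (f : X ⟶ S) [IsProper f] [Flat f] [LocallyOfFinitePresentation f] [IsLocallyNoetherian S]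
    [HasInjectiveResolutions X.Modules] [Coh.IsQCoh (Coh.structureModule X)]
    (s : S) (het : Algebra.Etale (S.residueField s) Γ(f.fiber s, ⊤))
    {V : S.Opens} (hV : IsAffineOpen V) (hs : s ∈ V) (l : FreeBC0 f (Coh.structureModule X) V) :
    l.free.Split hV 0 hs := by
  classical
  haveI : IsNoetherianRing Γ(S, V) := IsLocallyNoetherian.component_noetherian ⟨V, hV⟩
  haveI : Nontrivial Γ(S, V) := (S.presheaf.germ V s hs).hom.domain_nontrivial
  haveI : Module.Finite (S.residueField s) Γ(f.fiber s, ⊤) := Algebra.FormallyUnramified.finite_of_free _ _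
  obtain ⟨a, a₀, b, M, M', hMM', hsplit, -, -, hdata⟩ := exists_matrices l
  obtain ⟨L, hLF, hLA, hLf, hLs, τ, hτ⟩ := exists_separable_points (S.residueField s) Γ(f.fiber s, ⊤)
  let q₀ := fibreSq (f := f) hV hs
  letI : Field Γ(Spec (S.residueField s), ⊤) :=
    ((Scheme.ΓSpecIso (S.residueField s)).commRingCatIsoToRingEquiv.toMulEquiv.isField
      (Field.toIsField (S.residueField s))).toField
  obtain ⟨Θ₀, hΘ₀, hΘ₀k⟩ := hdata q₀
  obtain ⟨Ξ₀, hΞ₀⟩ := exists_sections_equiv (X := X) (f.fiberToSpecResidueField s) (f.fiberι s)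
  let φ : Γ(S, V) →+* Γ(Spec (S.residueField s), ⊤) := q₀.φ.hom
  have hfin : Module.finrank Γ(Spec (S.residueField s), ⊤)
      Γ((Scheme.Modules.pushforward (f.fiberToSpecResidueField s)).obj
        ((Scheme.Modules.pullback (f.fiberι s)).obj (Coh.structureModule X)), ⊤) =
      Module.finrank (S.residueField s) Γ(f.fiber s, ⊤) := by
    refine congrArg Cardinal.toNat (rank_eq_of_equiv_equiv (Scheme.ΓSpecIso (S.residueField s)).hom.hom Ξ₀
      (Scheme.ΓSpecIso (S.residueField s)).commRingCatIsoToRingEquiv.bijective fun r t => ?_)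
    rw [hΞ₀, Algebra.smul_def]
    refine congrArg (· * Ξ₀ t) ?_
    show (f.fiberToSpecResidueField s).appTop r =
      (f.fiberToSpecResidueField s).appTop ((Scheme.ΓSpecIso _).inv ((Scheme.ΓSpecIso _).hom r))
    exact congrArg _ ((Scheme.ΓSpecIso (S.residueField s)).commRingCatIsoToRingEquiv.symm_apply_apply r).symm
  have hker : RingHom.ker φ = (hV.primeIdealOf ⟨s, hs⟩).asIdeal := by
    rw [← comap_evaluation hV hs]
    refine Ideal.ext fun r => ?_
    show q₀.φ r = 0 ↔ S.evaluation V s hs r = 0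
    have h : q₀.φ = S.evaluation V s hs ≫ (Scheme.ΓSpecIso (S.residueField s)).inv := by
      show (Spec.map (S.residue s) ≫ S.fromSpecStalk s).appLE V ⊤ _ = _
      rw [appLE_thickPoint hs (S.residue s), ← Scheme.germ_residue, Category.assoc]
    rw [h, CommRingCat.comp_apply]
    exact map_eq_zero_iff _ (Scheme.ΓSpecIso (S.residueField s)).symm.commRingCatIsoToRingEquiv.injective
  letI : Algebra Γ(S, V) (S.presheaf.stalk s) := (S.presheaf.germ V s hs).hom.toAlgebra
  haveI : IsLocalization.AtPrime (S.presheaf.stalk s) (hV.primeIdealOf ⟨s, hs⟩).asIdeal :=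
    hV.isLocalization_stalk ⟨s, hs⟩
  haveI : (RingHom.ker φ).IsPrime := RingHom.ker_isPrime φ
  haveI : IsLocalization.AtPrime (S.presheaf.stalk s) (RingHom.ker φ) := by
    have hc : (RingHom.ker φ).primeCompl = (hV.primeIdealOf ⟨s, hs⟩).asIdeal.primeCompl :=
      Submonoid.ext fun x => not_congr (SetLike.ext_iff.1 hker x)
    show IsLocalization (RingHom.ker φ).primeCompl _
    rw [hc]
    assumption
  have hm := rank_add_rank_add (M.map φ) (M'.map φ)
    (by rw [← Matrix.map_mul, hMM', Matrix.map_zero _ (map_zero φ)]) Θ₀ hΘ₀ hΘ₀k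
  rw [hfin] at hm
  obtain ⟨r, σ, hr, hσ⟩ := exists_split_of_classes φ (S.presheaf.stalk s) M M' hMM' _ hm fun n => by
    letI : Algebra (IsLocalRing.ResidueField (S.presheaf.stalk s)) L := hLA
    haveI : FiniteDimensional (IsLocalRing.ResidueField (S.presheaf.stalk s)) L := hLf
    haveI : Algebra.IsSeparable (IsLocalRing.ResidueField (S.presheaf.stalk s)) L := hLs
    obtain ⟨R, _, _, _, ψ, ρ, hρs, hρn, hρψ, hψn⟩ := exists_thick_point (S.presheaf.stalk s) L n
    let g : Spec (CommRingCat.of R) ⟶ S := Spec.map (CommRingCat.ofHom ψ) ≫ S.fromSpecStalk s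
    have hle : (⊤ : (Spec (CommRingCat.of R)).Opens) ≤ g ⁻¹ᵁ V := fun z _ => by
      have hmem : g z ∈ Set.range (S.fromSpecStalk s) := ⟨_, rfl⟩
      rw [Scheme.range_fromSpecStalk] at hmem
      exact ((show _ ⤳ s from hmem).mem_open V.2 hs)
    let q : Sq f g (pullback.snd f g) (pullback.fst f g) V ⊤ :=
      ⟨hV, isAffineOpen_top _, hle, IsPullback.of_hasPullback f g⟩
    have hφq : q.φ = S.presheaf.germ V s hs ≫ CommRingCat.ofHom ψ ≫ (Scheme.ΓSpecIso (CommRingCat.of R)).inv :=
      appLE_thickPoint hs (CommRingCat.ofHom ψ) hle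
    let eR := (Scheme.ΓSpecIso (CommRingCat.of R)).symm.commRingCatIsoToRingEquiv
    haveI : IsArtinianRing Γ(Spec (CommRingCat.of R), ⊤) := eR.surjective.isArtinianRing
    refine ⟨Γ(Spec (CommRingCat.of R), ⊤), inferInstance, inferInstance, q.φ.hom, fun x hx => ?_, fun x hx => ?_, ?_⟩
    · rw [hφq]
      exact ((IsLocalization.map_units (S.presheaf.stalk s) (⟨x, hx⟩ : (RingHom.ker φ).primeCompl) :
        IsUnit (algebraMap Γ(S, V) (S.presheaf.stalk s) x)).map ψ).map eR
    · rw [hφq] at hx
      exact Ideal.pow_le_pow_right n.le_succ (hψn _ ((map_eq_zero_iff eR eR.injective).1 hx))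
    · obtain ⟨Θ, hΘ, hΘk⟩ := hdata q
      obtain ⟨Ξ, hΞ⟩ := exists_sections_equiv (X := X) (pullback.snd f g) (pullback.fst f g)
      obtain ⟨e, he⟩ := exists_independent f s (CommRingCat.of R) (CommRingCat.ofHom ψ) L ρ hρs hρn
        (CommRingCat.hom_ext hρψ) τ hτ (IsPullback.of_hasPullback f g)
      choose z hz using fun i => hΘ (Ξ.symm (e i))
      refine ⟨Fintype.linearCombination Γ(Spec (CommRingCat.of R), ⊤) (fun i => (z i).1), fun v => ?_,
        fun v u hu => he v ?_⟩
      · have : (∑ i, v i • z i).1 = Fintype.linearCombination _ (fun i => (z i).1) v := by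
          simp [Fintype.linearCombination_apply]
        rw [← this]
        exact (∑ i, v i • z i).2
      · have h0 : Θ (∑ i, v i • z i) = 0 := (hΘk _).2 ⟨u, by
          rw [← hu]; simp [Fintype.linearCombination_apply]⟩
        have h1 := congrArg Ξ h0
        simp only [map_sum, map_smul, hz, hΞ, AddEquiv.apply_symm_apply, map_zero] at h1
        exact h1
  exact hsplit r σ hσ _ (by rw [← hker]; exact hr)

/-- A fibre with étale functions has surjective degree zero base change. -/
theorem epi_bc0_of_etale (f : X ⟶ S) [IsProper f] [Flat f] [LocallyOfFinitePresentation f] [IsLocallyNoetherian S]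
    (s : S) (het : Algebra.Etale (S.residueField s) Γ(f.fiber s, ⊤)) :
    Epi (CohBC.bc0 f (S.fromSpecResidueField s) (f.fiberToSpecResidueField s) (f.fiberι s) (f.fiber_fac s)
      (Coh.structureModule X)) := by
  haveI := Groth.L17.PushQCoh.hasInjectiveResolutions X
  haveI : Coh.IsQCoh (Coh.structureModule X) := isQCoh_structure
  obtain ⟨_, ⟨V, hV, rfl⟩, hsV, -⟩ :=
    S.isBasis_affineOpens.exists_subset_of_mem_open (Set.mem_univ s) isOpen_univ
  obtain ⟨l⟩ := nonempty_freeBC0 f (Coh.structureModule X) hV isFP_structure (isFlatOver_structure f)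
  exact (epi_bc0_iff_split hV l hsV).2 (split_of_etale f s het hV hsV l)

end Groth.L16.EtaleFibre
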