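import Groth.Agent.L16.EtaleFibre.Noeth
import Mathlib.AlgebraicGeometry.Geometrically.Reduced
import Mathlib.RingTheory.Etale.Field

/-!
Good neighbourhoods of fibres with étale functions over an arbitrary base, and étaleness of the functions on
geometrically reduced proper fibres.
-/

set_option autoImplicit false
set_option linter.style.haveILetI false
set_option backward.isDefEq.respectTransparency false
universe u

open CategoryTheory CategoryTheory.Limits AlgebraicGeometry TopologicalSpace Opposite
open scoped TensorProduct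

noncomputable section

namespace Groth.L16.EtaleFibre

/-- A reduced finite algebra over an algebraically closed field is étale. -/
theorem formallyEtale_of_isReduced (K : Type u) [Field K] [IsAlgClosed K] (A : Type u) [CommRing A] [Algebra K A]
    [Module.Finite K A] [_root_.IsReduced A] : Algebra.FormallyEtale K A := by
  haveI : IsArtinianRing A := IsArtinianRing.of_finite K A
  letI : ∀ I : MaximalSpectrum A, Field (A ⧸ I.asIdeal) := fun I => Ideal.Quotient.field I.asIdeal
  have : ∀ I : MaximalSpectrum A, Algebra.FormallyEtale K (A ⧸ I.asIdeal) := fun I => by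
    rw [Algebra.FormallyEtale.iff_isSeparable]
    infer_instance
  exact .of_equiv ((IsArtinianRing.equivPi A).restrictScalars K).symm

/-- Étaleness over a field is detected after a base change to a bigger field. -/
theorem etale_of_isPushout_field {K L G H : Type u} [Field K] [Field L] [CommRing G] [CommRing H] [Algebra K L]
    [Algebra K G] [Algebra L H] [Algebra G H] [Algebra K H] [IsScalarTower K G H] [IsScalarTower K L H]
    [Module.Finite K G] [Algebra.IsPushout K L G H] [Algebra.FormallyUnramified L H] : Algebra.Etale K G := by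
  haveI : Subsingleton (L ⊗[K] Ω[G⁄K]) := (KaehlerDifferential.tensorKaehlerEquivBase K L G H).toEquiv.subsingleton
  haveI : Algebra.FormallyUnramified K G := by
    rw [Algebra.formallyUnramified_iff]
    by_contra hn
    rw [not_subsingleton_iff_nontrivial] at hn
    exact not_subsingleton (L ⊗[K] Ω[G⁄K]) inferInstance
  haveI : Algebra.FinitePresentation K G := Algebra.FinitePresentation.of_finiteType.1 inferInstance
  haveI : Algebra.FormallyEtale K G := Algebra.FormallyEtale.iff_formallyUnramified_of_field.2 inferInstance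
  exact {}

variable {X S : Scheme.{u}}

/-- The functions on a proper scheme over a field are finite. -/
theorem finite_fibre_functions (f : X ⟶ S) [IsProper f] (s : S) :
    Module.Finite (S.residueField s) Γ(f.fiber s, ⊤) := by
  haveI : IsProper (f.fiberToSpecResidueField s) :=
    MorphismProperty.of_isPullback (IsPullback.of_hasPullback f (S.fromSpecResidueField s)) inferInstance
  exact Groth.L00.ProperNorm.finite_toGlobal (A := S.residueField s) (f.fiberToSpecResidueField s)

/-- Algebra square of global functions along a field extension of the residue field. -/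
theorem etale_fibre_of_square (f : X ⟶ S) [IsProper f] (s : S) (L : Type u) [Field L]
    (a : S.residueField s ⟶ CommRingCat.of L) {P : Scheme.{u}} {p₁ : P ⟶ f.fiber s} {p₂ : P ⟶ Spec (CommRingCat.of L)}
    (sq : IsPullback p₁ p₂ (f.fiberToSpecResidueField s) (Spec.map a))
    (h : ((Scheme.ΓSpecIso (CommRingCat.of L)).inv ≫ p₂.appTop).hom.FormallyUnramified) :
    Algebra.Etale (S.residueField s) Γ(f.fiber s, ⊤) := by
  haveI := finite_fibre_functions f s
  haveI : IsProper (f.fiberToSpecResidueField s) :=
    MorphismProperty.of_isPullback (IsPullback.of_hasPullback f (S.fromSpecResidueField s)) inferInstance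
  haveI : CompactSpace (f.fiber s) := (quasiCompact_iff_compactSpace (f.fiberToSpecResidueField s)).mp inferInstance
  haveI : QuasiSeparatedSpace (f.fiber s) := quasiSeparatedSpace_of_quasiSeparated (f.fiberToSpecResidueField s)
  haveI : Flat (Spec.map a) := Flat.SpecMap_iff.2 (by
    letI := a.hom.toAlgebra
    exact RingHom.flat_algebraMap_iff.2 (inferInstance : Module.Flat (S.residueField s) L))
  have h1 := Groth.L22.AffDesc.isPushout_appTop sq
  let κ := S.residueField s
  letI : Algebra κ L := a.hom.toAlgebra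
  letI : Algebra L Γ(P, ⊤) := ((Scheme.ΓSpecIso (CommRingCat.of L)).inv ≫ p₂.appTop).hom.toAlgebra
  letI : Algebra Γ(f.fiber s, ⊤) Γ(P, ⊤) := p₁.appTop.hom.toAlgebra
  letI : Algebra κ Γ(P, ⊤) := (a ≫ (Scheme.ΓSpecIso (CommRingCat.of L)).inv ≫ p₂.appTop).hom.toAlgebra
  have h2 : IsPushout ((Scheme.ΓSpecIso κ).inv ≫ (f.fiberToSpecResidueField s).appTop) a p₁.appTop
      ((Scheme.ΓSpecIso (CommRingCat.of L)).inv ≫ p₂.appTop) :=
    h1.of_iso (Scheme.ΓSpecIso κ) (Iso.refl _) (Scheme.ΓSpecIso (CommRingCat.of L)) (Iso.refl _) (by simp)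
      (Scheme.ΓSpecIso_naturality a) (by simp) (by simp)
  haveI : IsScalarTower κ L Γ(P, ⊤) := IsScalarTower.of_algebraMap_eq fun _ => rfl
  haveI : IsScalarTower κ Γ(f.fiber s, ⊤) Γ(P, ⊤) := IsScalarTower.of_algebraMap_eq fun x => congr($(h2.w.symm) x)
  haveI : Algebra.IsPushout κ L Γ(f.fiber s, ⊤) Γ(P, ⊤) := CommRingCat.isPushout_iff_isPushout.1 h2.flip
  haveI : Algebra.FormallyUnramified L Γ(P, ⊤) := h
  exact etale_of_isPushout_field (L := L) (H := Γ(P, ⊤))

/-- The functions on a geometrically reduced proper fibre form an étale algebra. -/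
theorem etale_fibre_of_geometric (f : X ⟶ S) [IsProper f] (s : S)
    (hred : AlgebraicGeometry.IsReduced (pullback (f.fiberToSpecResidueField s)
      (Spec.map (CommRingCat.ofHom (algebraMap (S.residueField s) (AlgebraicClosure (S.residueField s))))))) :
    Algebra.Etale (S.residueField s) Γ(f.fiber s, ⊤) := by
  let Ω := AlgebraicClosure (S.residueField s)
  let a := CommRingCat.ofHom (algebraMap (S.residueField s) Ω)
  haveI : IsProper (f.fiberToSpecResidueField s) :=
    MorphismProperty.of_isPullback (IsPullback.of_hasPullback f (S.fromSpecResidueField s)) inferInstance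
  let p₂ : pullback (f.fiberToSpecResidueField s) (Spec.map a) ⟶ Spec (CommRingCat.of Ω) := pullback.snd _ _
  haveI : IsProper p₂ := MorphismProperty.of_isPullback (IsPullback.of_hasPullback _ _) inferInstance
  refine etale_fibre_of_square f s Ω a (IsPullback.of_hasPullback _ _) ?_
  letI : Algebra Ω Γ(pullback (f.fiberToSpecResidueField s) (Spec.map a), ⊤) :=
    ((Scheme.ΓSpecIso (CommRingCat.of Ω)).inv ≫ p₂.appTop).hom.toAlgebra
  haveI : Module.Finite Ω Γ(pullback (f.fiberToSpecResidueField s) (Spec.map a), ⊤) :=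
    Groth.L00.ProperNorm.finite_toGlobal (A := Ω) p₂
  haveI : AlgebraicGeometry.IsReduced (pullback (f.fiberToSpecResidueField s) (Spec.map a)) := hred
  haveI := formallyEtale_of_isReduced Ω Γ(pullback (f.fiberToSpecResidueField s) (Spec.map a), ⊤)
  exact (inferInstance : Algebra.FormallyUnramified Ω Γ(pullback (f.fiberToSpecResidueField s) (Spec.map a), ⊤))

/-- A fibre with étale functions has a good affine neighbourhood. -/
theorem exists_good (f : X ⟶ S) [IsProper f] [Flat f] [LocallyOfFinitePresentation f] (s : S)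
    (het : Algebra.Etale (S.residueField s) Γ(f.fiber s, ⊤)) :
    ∃ U : S.Opens, IsAffineOpen U ∧ s ∈ U ∧ Good (pullback.snd f U.ι) := by
  obtain ⟨V, hV, hsV, -⟩ := exists_isAffineOpen_mem_and_subset (X := S) (x := s) (U := ⊤) trivial
  let f' := pullback.snd f hV.fromSpec
  have hc := IsPullback.of_hasPullback f hV.fromSpec
  obtain ⟨A₀, hA₀, X₀, f₀, g, h1, h2, h3, sqm⟩ := Groth.L07.Count.exists_flat_proper_model f'
  haveI : Algebra.FiniteType ℤ A₀ := A₀.fg_iff_finiteType.mp hA₀
  haveI : IsNoetherianRing A₀ := Algebra.FiniteType.isNoetherianRing ℤ A₀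
  haveI := h1
  haveI := h2
  haveI := h3
  let q := Spec.map (CommRingCat.ofHom (algebraMap (↥A₀) Γ(S, V)))
  -- the point over the model
  let k : Spec (S.residueField s) ⟶ Spec Γ(S, V) := IsOpenImmersion.lift hV.fromSpec (S.fromSpecResidueField s) (by
    rw [Scheme.range_fromSpecResidueField, hV.range_fromSpec]
    exact Set.singleton_subset_iff.2 hsV)
  have hk : k ≫ hV.fromSpec = S.fromSpecResidueField s := IsOpenImmersion.lift_fac _ _ _
  let s₀ := (k ≫ q) (IsLocalRing.closedPoint (S.residueField s))
  let φ : (Spec (CommRingCat.of A₀)).residueField s₀ ⟶ CommRingCat.of (S.residueField s) :=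
    Scheme.descResidueField (Scheme.stalkClosedPointTo (k ≫ q))
  have hφ : Spec.map φ ≫ (Spec (CommRingCat.of A₀)).fromSpecResidueField s₀ = k ≫ q :=
    Scheme.descResidueField_stalkClosedPointTo_fromSpecResidueField (S.residueField s) _ (k ≫ q)
  let i : f.fiber s ⟶ pullback f hV.fromSpec := hc.lift (f.fiberι s) (f.fiberToSpecResidueField s ≫ k)
    (by rw [Category.assoc, hk]; exact f.fiber_fac s)
  have sqi : IsPullback i (f.fiberToSpecResidueField s) f' k :=
    IsPullback.of_right (by rw [hc.lift_fst, hk]; exact IsPullback.of_hasPullback f _) (hc.lift_snd _ _ _) hc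
  have hbig := sqi.paste_horiz sqm
  rw [← hφ] at hbig
  have hfib := IsPullback.of_hasPullback f₀ ((Spec (CommRingCat.of A₀)).fromSpecResidueField s₀)
  let i₀ : f.fiber s ⟶ f₀.fiber s₀ := hfib.lift (i ≫ g) (f.fiberToSpecResidueField s ≫ Spec.map φ)
    (by rw [hbig.w, Category.assoc])
  have sq₀ : IsPullback i₀ (f.fiberToSpecResidueField s) (f₀.fiberToSpecResidueField s₀) (Spec.map φ) :=
    IsPullback.of_right (by rw [show i₀ ≫ pullback.fst f₀ _ = i ≫ g from hfib.lift_fst _ _ _]; exact hbig)
      (hfib.lift_snd _ _ _) hfib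
  have het₀ : Algebra.Etale ((Spec (CommRingCat.of A₀)).residueField s₀) Γ(f₀.fiber s₀, ⊤) :=
    etale_fibre_of_square f₀ s₀ (S.residueField s) φ sq₀ (by
      haveI := het
      exact (inferInstance : Algebra.FormallyUnramified (S.residueField s) Γ(f.fiber s, ⊤)))
  obtain ⟨S₁, hS₁, j, hj, hsj, hgood⟩ := exists_good_of_affine f₀ s₀ het₀
  -- back to the base
  let p : Spec Γ(S, V) := k (IsLocalRing.closedPoint (S.residueField s))
  have hps : hV.fromSpec p = s := by
    show hV.fromSpec (k _) = s
    rw [← Scheme.Hom.comp_apply, hk, Scheme.fromSpecResidueField_apply]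
  obtain ⟨W, hW, hpW, hWle⟩ := exists_isAffineOpen_mem_and_subset (X := Spec Γ(S, V)) (x := p)
    (U := q ⁻¹ᵁ j.opensRange) (by
      show q p ∈ j.opensRange
      exact hsj)
  let U : S.Opens := hV.fromSpec ''ᵁ W
  have hU : IsAffineOpen U := hW.image_of_isOpenImmersion _
  refine ⟨U, hU, ⟨p, hpW, hps⟩, ?_⟩
  haveI : IsAffine U.toScheme := hU
  let w : U.toScheme ⟶ Spec Γ(S, V) := IsOpenImmersion.lift hV.fromSpec U.ι (by
    rw [Scheme.Opens.range_ι]
    exact Set.image_subset_range _ _)
  have hw : w ≫ hV.fromSpec = U.ι := IsOpenImmersion.lift_fac _ _ _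
  have hwW : ∀ z, w z ∈ W := fun z => by
    obtain ⟨y, hy, hyz⟩ := z.2
    have : w z = y := hV.fromSpec.isOpenEmbedding.injective (by
      rw [← Scheme.Hom.comp_apply, hw]; exact hyz.symm)
    rw [this]; exact hy
  let v : U.toScheme ⟶ S₁ := IsOpenImmersion.lift j (w ≫ q) (by
    rintro _ ⟨z, rfl⟩
    exact hWle (hwW z))
  have hv : v ≫ j = w ≫ q := IsOpenImmersion.lift_fac _ _ _
  have sU := IsPullback.of_hasPullback f U.ι
  let i₁ : pullback f U.ι ⟶ pullback f hV.fromSpec := hc.lift (pullback.fst f U.ι) (pullback.snd f U.ι ≫ w)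
    (by rw [Category.assoc, hw]; exact pullback.condition)
  have sq1 : IsPullback i₁ (pullback.snd f U.ι) f' w :=
    IsPullback.of_right (by rw [hc.lift_fst, hw]; exact sU) (hc.lift_snd _ _ _) hc
  have hb := sq1.paste_horiz sqm
  rw [← hv] at hb
  have sj := IsPullback.of_hasPullback f₀ j
  let i₂ : pullback f U.ι ⟶ pullback f₀ j := sj.lift (i₁ ≫ g) (pullback.snd f U.ι ≫ v)
    (by rw [hb.w, Category.assoc])
  exact hgood.of_isPullback
    (IsPullback.of_right (by rw [sj.lift_fst]; exact hb) (sj.lift_snd _ _ _) sj : IsPullback i₂ _ _ v)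

end Groth.L16.EtaleFibre
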