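import Groth.Agent.L16.EtaleFibre.Epi
import Groth.Agent.L22.AffineDescent
import Groth.Agent.L16.Exist.AlgClosed
import Groth.Agent.L00.ProperNorm
import Groth.Agent.L07.Count.FlatProper
import Mathlib.RingTheory.Kaehler.TensorProduct
import Mathlib.RingTheory.RingHom.Etale
import Mathlib.RingTheory.Smooth.Fiber

/-!
Proper flat families whose direct image is a finite étale algebra commuting with all base change.
-/

set_option autoImplicit false
set_option linter.style.haveILetI false
set_option linter.unusedSectionVars false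
set_option backward.isDefEq.respectTransparency false
universe u

open CategoryTheory CategoryTheory.Limits AlgebraicGeometry TopologicalSpace Opposite
open Groth.L17 Groth.L17.BC Groth.L17.BC.Classes
open scoped TensorProduct

noncomputable section

namespace Groth.L16.EtaleFibre

variable {X S : Scheme.{u}}

/-- Functions are a finite étale algebra over those of the base and commute with base change. -/
structure Good (f : X ⟶ S) : Prop where
  finite : f.appTop.hom.Finite
  etale : f.appTop.hom.Etale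
  isPushout : ∀ {X' S' : Scheme.{u}} [IsAffine S'] {g : S' ⟶ S} {f' : X' ⟶ S'} {g' : X' ⟶ X},
    IsPullback g' f' f g → IsPushout f.appTop g.appTop g'.appTop f'.appTop

theorem pushout_right {P : ∀ {R S : Type u} [CommRing R] [CommRing S], (R →+* S) → Prop}
    (hP : RingHom.IsStableUnderBaseChange P) (hP' : RingHom.RespectsIso P) {A B C D : CommRingCat.{u}} {a : A ⟶ B}
    {b : A ⟶ C} {c : B ⟶ D} {d : C ⟶ D} (sq : IsPushout a b c d) (h : P a.hom) : P d.hom := by
  rw [← sq.flip.inl_isoPushout_inv, CommRingCat.hom_comp]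
  exact hP'.1 _ sq.flip.isoPushout.symm.commRingCatIsoToRingEquiv (hP.pushout_inl hP' b a h)

theorem Good.of_isPullback {f : X ⟶ S} (h : Good f) {X' S' : Scheme.{u}} [IsAffine S'] {g : S' ⟶ S}
    {f' : X' ⟶ S'} {g' : X' ⟶ X} (sq : IsPullback g' f' f g) : Good f' where
  finite := pushout_right RingHom.finite_isStableUnderBaseChange RingHom.finite_respectsIso (h.isPushout sq) h.finite
  etale := pushout_right RingHom.Etale.isStableUnderBaseChange RingHom.Etale.respectsIso (h.isPushout sq) h.etale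
  isPushout := fun {X'' S''} _ {g₁ f'' g₁'} sq' => by
    have h1 := h.isPushout (sq'.paste_horiz sq)
    rw [Scheme.Hom.comp_appTop, Scheme.Hom.comp_appTop] at h1
    refine (IsPushout.of_left h1.flip ?_ (h.isPushout sq).flip).flip
    rw [← Scheme.Hom.comp_appTop, ← Scheme.Hom.comp_appTop, sq'.w]

/-- The pullback of a function through the identification of the pulled back structure module. -/
theorem pullUnit_rs_pull {X' : Scheme.{u}} (g' : X' ⟶ X) {U : X.Opens} {W : X'.Opens} (h : W ≤ g' ⁻¹ᵁ U)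
    (t : Γ(X, U)) :
    (Groth.L29.LocFree.pullbackUnitIso g').hom.app W
        (Groth.L18.Frame.rs ((Scheme.Modules.pullback g').obj (Coh.structureModule X)) h
          (Groth.L18.Frame.pull g' (Coh.structureModule X) U t)) = g'.appLE U W h t := by
  rw [Groth.L17.BC.PullSec.app_rs]
  have h1 := congr($(congrArg (fun k => Scheme.Modules.Hom.app k U) (Groth.L16.Exist.Adic.unit_pullbackUnitIso g')) t)
  have h2 : (Groth.L29.LocFree.pullbackUnitIso g').hom.app (g' ⁻¹ᵁ U)
      (Groth.L18.Frame.pull g' (Coh.structureModule X) U t) = g'.app U t :=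
    h1.trans (Groth.L16.Exist.Adic.unitToPush_app g' U t)
  rw [h2]
  rfl

variable [IsAffine S] {f : X ⟶ S} [IsProper f] [LocallyOfFinitePresentation f]
  [HasInjectiveResolutions X.Modules] [Coh.IsQCoh (Coh.structureModule X)]

/-- Over split points the functions of a base change are the base changed functions. -/
theorem isPushout_of_split (l : FreeBC0 f (Coh.structureModule X) ⊤) {X' S' : Scheme.{u}} [IsAffine S']
    {g : S' ⟶ S} {f' : X' ⟶ S'} {g' : X' ⟶ X} (sq : IsPullback g' f' f g)
    (h : ∀ z : S', l.free.Split (isAffineOpen_top S) 0 (Set.mem_univ (g z) : g z ∈ (⊤ : S.Opens))) :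
    IsPushout f.appTop g.appTop g'.appTop f'.appTop := by
  let q : Sq f g f' g' ⊤ ⊤ := ⟨isAffineOpen_top S, isAffineOpen_top S', fun _ _ => trivial, sq⟩
  let A := Γ(S, ⊤)
  let B := Γ(S', ⊤)
  letI : Algebra A B := q.φ.hom.toAlgebra
  letI : Module A Γ((Scheme.Modules.pushforward f').obj ((Scheme.Modules.pullback g').obj (Coh.structureModule X)), ⊤) :=
    Module.compHom _ (algebraMap A B)
  haveI : IsScalarTower A B
      Γ((Scheme.Modules.pushforward f').obj ((Scheme.Modules.pullback g').obj (Coh.structureModule X)), ⊤) :=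
    IsScalarTower.of_algebraMap_smul fun _ _ => rfl
  obtain ⟨ψl, hψ, ⟨D⟩⟩ := l.data q rfl
  have hbc : IsBaseChange B ψl := by
    refine D.isBaseChange (LinearMap.ext fun x => Transfer.dd_zero l.free.L _ _ _ x) fun x => ?_
    obtain ⟨z, hz, rfl⟩ : ∃ (z : S') (hz : z ∈ (⊤ : S'.Opens)), q.hV'.primeIdealOf ⟨z, hz⟩ = x := by
      have hm : q.hV'.fromSpec x ∈ (⊤ : S'.Opens) := trivial
      exact ⟨_, hm, q.hV'.fromSpec.isOpenEmbedding.injective (q.hV'.fromSpec_primeIdealOf _)⟩
    rw [show PrimeSpectrum.comap (algebraMap A B) (q.hV'.primeIdealOf ⟨z, hz⟩) =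
      q.hV.primeIdealOf ⟨g z, q.le hz⟩ from IsAffineOpen.comap_primeIdealOf_appLE ⊤ q.hV ⊤ q.hV' q.le hz]
    exact h z
  letI : Algebra A Γ(X, ⊤) := f.appTop.hom.toAlgebra
  letI : Algebra B Γ(X', ⊤) := f'.appTop.hom.toAlgebra
  letI : Algebra Γ(X, ⊤) Γ(X', ⊤) := g'.appTop.hom.toAlgebra
  letI : Algebra A Γ(X', ⊤) := (f.appTop ≫ g'.appTop).hom.toAlgebra
  haveI : IsScalarTower A Γ(X, ⊤) Γ(X', ⊤) := IsScalarTower.of_algebraMap_eq fun _ => rfl
  have hφ : q.φ = g.appTop := g.appLE_eq_app
  haveI : IsScalarTower A B Γ(X', ⊤) := IsScalarTower.of_algebraMap_eq fun a => by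
    show (f.appTop ≫ g'.appTop) a = f'.appTop (q.φ a)
    rw [hφ, ← CommRingCat.comp_apply, ← Scheme.Hom.comp_appTop, ← Scheme.Hom.comp_appTop, sq.w]
  let j : Γ((Scheme.Modules.pushforward f').obj ((Scheme.Modules.pullback g').obj (Coh.structureModule X)), ⊤) ≃+
      Γ(X', ⊤) :=
    ((Scheme.Modules.toPresheaf X' ⋙ (evaluation _ _).obj (op ⊤)).mapIso
      (Groth.L29.LocFree.pullbackUnitIso g')).addCommGroupIsoToAddEquiv
  have hj : ∀ (b : B) t, j (b • t) = b • j t := fun b t =>
    ((Groth.L29.LocFree.pullbackUnitIso g').hom.app_smul (f'.appTop b) t).trans (Algebra.smul_def b (j t)).symm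
  let J : Γ((Scheme.Modules.pushforward f').obj ((Scheme.Modules.pullback g').obj (Coh.structureModule X)), ⊤) ≃ₗ[B]
      Γ(X', ⊤) := { j with map_smul' := hj }
  let θ : Γ((Scheme.Modules.pushforward f).obj (Coh.structureModule X), (⊤ : S.Opens)) ≃ₗ[A] Γ(X, ⊤) :=
    { AddEquiv.refl Γ(X, ⊤) with map_smul' := fun _ _ => rfl }
  have hb : IsBaseChange B (IsScalarTower.toAlgHom A Γ(X, ⊤) Γ(X', ⊤)).toLinearMap := by
    refine IsBaseChange.of_equiv
      ((TensorProduct.AlgebraTensorModule.congr (LinearEquiv.refl B B) θ.symm) ≪≫ₗ hbc.equiv ≪≫ₗ J) fun x => ?_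
    show j (hbc.equiv ((1 : B) ⊗ₜ[A] θ.symm x)) = g'.appTop x
    rw [IsBaseChange.equiv_tmul, one_smul, hψ, Sq.ψ0_eq]
    refine (pullUnit_rs_pull g' q.preimage_le x).trans ?_
    show g'.appLE ⊤ ⊤ _ x = _
    exact congr($(Scheme.Hom.appLE_eq_app (f := g') (U := ⊤)) x)
  haveI : Algebra.IsPushout A B Γ(X, ⊤) Γ(X', ⊤) := ⟨hb⟩
  have key := CommRingCat.isPushout_of_isPushout A B Γ(X, ⊤) Γ(X', ⊤)
  have hg : CommRingCat.ofHom (algebraMap A B) = g.appTop := hφ
  rw [hg] at key
  exact key.flip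

end Groth.L16.EtaleFibre
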