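import Groth.Agent.L16.EtaleFibre.Epi
import Groth.Agent.L17.BC.Exchange
import Mathlib.LinearAlgebra.TensorProduct.Basic

/-!
Cohomological flatness in degree zero over a local base from an étale closed fibre.
-/

set_option autoImplicit false
set_option linter.style.haveILetI false
set_option backward.isDefEq.respectTransparency false
universe u

open CategoryTheory CategoryTheory.Limits AlgebraicGeometry TopologicalSpace Opposite
open Groth.L17 Groth.L17.BC Groth.L17.BC.Classes
open scoped TensorProduct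
attribute [local instance] HasDerivedCategory.standard

noncomputable section

namespace Groth.L16.EtaleFibre

variable {A : Type u} [CommRing A]

theorem bijective_one_tmul {B : Type u} [CommRing B] [Algebra A B] (hb : Function.Bijective (algebraMap A B))
    (M : Type u) [AddCommGroup M] [Module A M] : Function.Bijective (fun x : M => (1 : B) ⊗ₜ[A] x) := by
  let e : A ≃ₗ[A] B := LinearEquiv.ofBijective (Algebra.linearMap A B) hb
  have h : (fun x : M => (1 : B) ⊗ₜ[A] x) = ⇑((TensorProduct.lid A M).symm ≪≫ₗ TensorProduct.congr e (LinearEquiv.refl A M)) := by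
    funext x
    simp [e]
  rw [h]
  exact LinearEquiv.bijective _

/-- Over a local ring a split differential of a base change along an isomorphism has flat cokernel. -/
theorem flat_coker_of_bc_split [IsLocalRing A] {B : Type u} [CommRing B] [Algebra A B]
    (hb : Function.Bijective (algebraMap A B)) (P : CochainComplex (ModuleCat.{u} A) ℤ) (i j : ℤ)
    [Module.Flat A (P.X j)] (y : PrimeSpectrum B)
    (hy : PrimeSpectrum.comap (algebraMap A B) y = IsLocalRing.closedPoint A)
    (h : SplitAt ((CohIII.bcCx (algebraMap A B) P).d i j).hom y) :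
    Module.Flat A (Groth.L01.FlatCx.Coker P i j) := by
  obtain ⟨r, σ, hr, hσ⟩ := h
  obtain ⟨a, rfl⟩ := hb.2 r
  have ha : IsUnit a := by
    by_contra hn
    have hm : a ∈ (IsLocalRing.closedPoint A).asIdeal := hn
    rw [← hy] at hm
    exact hr hm
  have ε : ∀ k, ∃ e : P.X k ≃+ (CohIII.bcCx (algebraMap A B) P).X k,
      (∀ (c : A) x, e (c • x) = algebraMap A B c • e x) ∧
        ∀ x, Groth.L01.FlatCx.bcE B (P.X k) (e x) = (1 : B) ⊗ₜ[A] x := fun k => by
    let i₁ : P.X k ≃+ B ⊗[A] (P.X k) :=
      { Equiv.ofBijective _ (bijective_one_tmul hb (P.X k)) with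
        map_add' := fun x y => TensorProduct.tmul_add _ x y }
    refine ⟨i₁.trans (Groth.L01.FlatCx.bcE B (P.X k)).symm.toAddEquiv, fun c x => ?_, fun x => ?_⟩
    · show (Groth.L01.FlatCx.bcE B (P.X k)).symm ((1 : B) ⊗ₜ[A] (c • x)) = _
      rw [TensorProduct.tmul_smul, ← algebraMap_smul B c, map_smul]
      rfl
    · exact (Groth.L01.FlatCx.bcE B (P.X k)).apply_symm_apply ((1 : B) ⊗ₜ[A] x)
  choose e he he' using ε
  have hd : ∀ x, ((CohIII.bcCx (algebraMap A B) P).d i j).hom (e i x) = e j ((P.d i j).hom x) := fun x => by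
    apply (Groth.L01.FlatCx.bcE B (P.X j)).injective
    refine (Groth.L01.FlatCx.bcE_dd B P i j (e i x)).trans ?_
    rw [he', he', LinearMap.baseChange_tmul]
  let s : P.X j →ₗ[A] P.X i :=
    { toFun := fun v => (e i).symm (σ (e j v))
      map_add' := fun v w => by simp
      map_smul' := fun c v => (e i).injective (by
        rw [RingHom.id_apply, AddEquiv.apply_symm_apply, he, map_smul, he, AddEquiv.apply_symm_apply]) }
  obtain ⟨u, rfl⟩ := ha
  let d := (P.d i j).hom
  have hs : ∀ x, d (s (d x)) = (u : A) • d x := fun x => (e j).injective (by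
    rw [he, ← hd, ← hd]
    show ((CohIII.bcCx (algebraMap A B) P).d i j).hom (e i ((e i).symm (σ (e j (d x))))) = _
    rw [AddEquiv.apply_symm_apply, ← hd, hσ])
  let p : P.X j →ₗ[A] P.X j := LinearMap.id - ((u⁻¹ : Aˣ) : A) • d ∘ₗ s
  have hp : LinearMap.range d ≤ LinearMap.ker p := by
    rintro _ ⟨x, rfl⟩
    show d x - ((u⁻¹ : Aˣ) : A) • d (s (d x)) = 0
    rw [hs, smul_smul, Units.inv_mul, one_smul, sub_self]
  refine Module.Flat.of_retract (M := P.X j) ((LinearMap.range d).liftQ p hp) (LinearMap.range d).mkQ ?_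
  refine Submodule.linearMap_qext _ (LinearMap.ext fun v => ?_)
  show Submodule.Quotient.mk (v - ((u⁻¹ : Aˣ) : A) • d (s v)) = Submodule.Quotient.mk v
  rw [Submodule.Quotient.eq, sub_sub_cancel_left]
  exact neg_mem (Submodule.smul_mem _ _ ⟨_, rfl⟩)

/-- An étale closed fibre makes the structure module cohomologically flat in degree zero. -/
theorem flat_coker_zero [IsNoetherianRing A] [IsLocalRing A] {X : Scheme.{u}} (f : X ⟶ Spec (CommRingCat.of A))
    [IsProper f] [Flat f] (m : Model f (Coh.structureModule X)) (y : ↥(Spec (CommRingCat.of A)))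
    (hy : y.asIdeal = IsLocalRing.maximalIdeal A)
    (het : Algebra.Etale ((Spec (CommRingCat.of A)).residueField y) Γ(f.fiber y, ⊤)) :
    Module.Flat A (Groth.L01.FlatCx.Coker m.L ((0 : ℕ) : ℤ) (((0 : ℕ) : ℤ) + 1)) := by
  haveI : IsLocallyNoetherian X := LocallyOfFiniteType.isLocallyNoetherian f
  haveI : LocallyOfFinitePresentation f := inferInstance
  haveI := Groth.L17.PushQCoh.hasInjectiveResolutions X
  haveI : Coh.IsQCoh (Coh.structureModule X) := isQCoh_structure
  let S := Spec (CommRingCat.of A)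
  let hV := isAffineOpen_top S
  let φ : A →+* Γ(S, ⊤) := (Scheme.ΓSpecIso (CommRingCat.of A)).inv.hom
  have hfrom : hV.fromSpec = Spec.map (CommRingCat.ofHom φ) := by
    rw [IsAffineOpen.fromSpec_top, Scheme.isoSpec_Spec_inv]; rfl
  haveI : IsIso (Spec.map (CommRingCat.ofHom φ)) := by rw [← hfrom, IsAffineOpen.fromSpec_top]; infer_instance
  haveI : IsIso (f ⁻¹ᵁ (⊤ : S.Opens)).ι := (Scheme.topIso X).isIso_hom
  have sq : IsPullback (f ⁻¹ᵁ (⊤ : S.Opens)).ι (fV f hV) f (Spec.map (CommRingCat.ofHom φ)) :=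
    IsPullback.of_horiz_isIso ⟨by rw [← hfrom]; exact (fV_fromSpec f hV).symm⟩
  let l₀ : GLocal f hV (Coh.structureModule X) :=
    { A₀ := A, φ := φ, X₀ := X, f₀ := f, F₀ := Coh.structureModule X,
      coh := Groth.L16.CohClosedPush.isCoh_structure, g := (f ⁻¹ᵁ (⊤ : S.Opens)).ι, sq := sq,
      iso := ((Scheme.Modules.restrictFunctorIsoPullback _).app _).symm, m := m }
  obtain ⟨l, hl⟩ := exists_freeBC0_of_glocal f (Coh.structureModule X) hV (isFlatOver_structure f) l₀
  have hsplit := split_of_etale f y het hV trivial l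
  unfold FreeBC.Split at hsplit
  rw [hl] at hsplit
  letI : Algebra A Γ(S, ⊤) := φ.toAlgebra
  haveI : Module.Free A (m.L.X (((0 : ℕ) : ℤ) + 1)) := (m.finiteFree _).2
  refine flat_coker_of_bc_split (B := Γ(S, ⊤))
    (Scheme.ΓSpecIso (CommRingCat.of A)).symm.commRingCatIsoToRingEquiv.bijective m.L _ _
    (hV.primeIdealOf ⟨y, trivial⟩) ?_ hsplit
  have h1 : hV.fromSpec (hV.primeIdealOf ⟨y, trivial⟩) = y := hV.fromSpec_primeIdealOf ⟨y, trivial⟩
  rw [hfrom] at h1
  exact h1.trans (PrimeSpectrum.ext hy)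

end Groth.L16.EtaleFibre
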