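import Mathlib.LinearAlgebra.Matrix.Rank
import Mathlib.LinearAlgebra.Matrix.NonsingularInverse
import Mathlib.RingTheory.Artinian.Module
import Mathlib.RingTheory.LocalRing.ResidueField.Basic
import Mathlib.RingTheory.Filtration
import Mathlib.RingTheory.Localization.Submodule
import Mathlib.RingTheory.Localization.AtPrime.Basic
import Mathlib.RingTheory.Spectrum.Prime.Basic

/-!
Splitting of a differential from Artinian thickenings with enough cycles.
-/

set_option autoImplicit false
universe u

open Matrix

namespace Groth.L16.EtaleFibre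

/-- Columns of full rank have a left inverse up to a function not vanishing at the point. -/
theorem exists_minor {A K : Type u} [CommRing A] [Field K] (φ : A →+* K) {a b : Type} [Fintype a] [Fintype b]
    (M : Matrix b a A) :
    ∃ (c : Fin (M.map φ).rank → a) (T : Matrix (Fin (M.map φ).rank) b A) (r : A),
      Function.Injective c ∧ φ r ≠ 0 ∧ T * M.submatrix id c = r • 1 := by
  classical
  obtain ⟨κ, i, hi, hspan, hli⟩ := exists_linearIndependent' K (M.map φ).col
  haveI : Fintype κ := Fintype.ofInjective i hi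
  have hκ : Fintype.card κ = (M.map φ).rank := by
    rw [rank_eq_finrank_span_cols, ← hspan, finrank_span_eq_card hli]
  let e : Fin (M.map φ).rank ≃ κ := (Fintype.equivFinOfCardEq hκ).symm
  let c := i ∘ e
  let W := (M.map φ).submatrix id c
  have hW : W.rank = (M.map φ).rank := by
    refine (LinearIndependent.rank_matrix (M := Wᵀ) ?_ |> (rank_transpose W).symm.trans).trans (Fintype.card_fin _)
    exact hli.comp e e.injective
  obtain ⟨κ', j, hj, hspan', hli'⟩ := exists_linearIndependent' K W.row
  haveI : Fintype κ' := Fintype.ofInjective j hj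
  have hκ' : Fintype.card κ' = (M.map φ).rank := by
    rw [← hW, rank_eq_finrank_span_row, ← hspan', finrank_span_eq_card hli']
  let e' : Fin (M.map φ).rank ≃ κ' := (Fintype.equivFinOfCardEq hκ').symm
  let N := M.submatrix (j ∘ e') c
  have hdet : φ N.det ≠ 0 := by
    have h1 : LinearIndependent K (N.map φ).row := hli'.comp e' e'.injective
    have h2 := (Matrix.isUnit_iff_isUnit_det _).1 (linearIndependent_rows_iff_isUnit.1 h1)
    rw [RingHom.map_det]
    exact h2.ne_zero
  refine ⟨c, N.adjugate * (1 : Matrix b b A).submatrix (j ∘ e') (Equiv.refl b), N.det,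
    hi.comp e.injective, hdet, ?_⟩
  rw [Matrix.mul_assoc, one_submatrix_mul]
  exact adjugate_mul N

/-- Vectors killed by a left inverse are determined away from the inverted columns. -/
theorem eq_zero_of_mulVec {R : Type u} [CommRing R] {a b : Type} [Fintype a] [Fintype b] {k : ℕ}
    (c : Fin k → a) (hc : Function.Injective c) (T : Matrix (Fin k) b R) (M : Matrix b a R) (r : R) (hr : IsUnit r)
    (h : T * M.submatrix id c = r • 1) (v : a → R) (hv : T *ᵥ (M *ᵥ v) = 0)
    (h0 : ∀ i, i ∉ Set.range c → v i = 0) : v = 0 := by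
  classical
  have hM : M *ᵥ v = M.submatrix id c *ᵥ (v ∘ c) := by
    funext x
    simp only [mulVec, dotProduct, submatrix_apply, id_eq, Function.comp_apply]
    exact (Fintype.sum_of_injective c hc _ _ (fun i hi => by rw [h0 i hi, mul_zero]) fun j => rfl).symm
  rw [hM, mulVec_mulVec, h, smul_mulVec, one_mulVec] at hv
  funext i
  by_cases hi : i ∈ Set.range c
  · obtain ⟨j, rfl⟩ := hi
    exact hr.mul_right_eq_zero.1 (congrFun hv j)
  · exact h0 i hi

variable {A : Type u} [CommRing A] {K : Type u} [Field K] (φ : A →+* K)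
  {a a₀ b : Type} [Fintype a] [Fintype a₀] [Fintype b]

attribute [local instance] RingHom.ker_isPrime

/-- If arbitrarily thick Artinian neighbourhoods carry as many independent classes as the point,
the differential is split near the point. -/
theorem exists_split_of_classes [IsNoetherianRing A] (O : Type u) [CommRing O] [IsLocalRing O] [Algebra A O]
    [IsLocalization.AtPrime O (RingHom.ker φ)] (M : Matrix b a A) (M' : Matrix a a₀ A) (hMM' : M * M' = 0)
    (m : ℕ) (hm : (M.map φ).rank + (M'.map φ).rank + m = Fintype.card a)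
    (H : ∀ n : ℕ, ∃ (R : Type u) (_ : CommRing R) (_ : IsArtinianRing R) (ψ : A →+* R),
      (∀ r, φ r ≠ 0 → IsUnit (ψ r)) ∧
      (∀ x, ψ x = 0 → algebraMap A O x ∈
        IsLocalRing.maximalIdeal O ^ n) ∧
      ∃ Z : (Fin m → R) →ₗ[R] (a → R), (∀ v, M.map ψ *ᵥ Z v = 0) ∧
        ∀ v u, Z v = M'.map ψ *ᵥ u → v = 0) :
    ∃ (r : A) (σ : Matrix a b A), φ r ≠ 0 ∧ M * σ * M = r • M := by
  classical
  obtain ⟨c, T, r, hc, hr, hT⟩ := exists_minor φ M
  obtain ⟨c', T', r', hc', hr', hT'⟩ := exists_minor φ M'
  let C : Matrix a (Fin (M.map φ).rank) A := (1 : Matrix a a A).submatrix id c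
  have hMC : M * C = M.submatrix id c := by
    rw [show C = (1 : Matrix a a A).submatrix (Equiv.refl a) c from rfl, mul_submatrix_one]
    rfl
  let D := M * (C * T) * M - r • M
  have key : ∀ n x y, algebraMap A O (D x y) ∈
      IsLocalRing.maximalIdeal O ^ n := by
    intro n x y
    obtain ⟨R, _, _, ψ, hu, hψ, Z, hZ, hZ'⟩ := H n
    refine hψ _ ?_
    let MR := M.map ψ
    let MR' := M'.map ψ
    let TR := T.map ψ
    have hTR : TR * MR.submatrix id c = ψ r • 1 := by
      rw [show MR.submatrix id c = (M.submatrix id c).map ψ from rfl, ← Matrix.map_mul, hT]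
      simp [Matrix.map_smul', Matrix.map_one]
    have hTR' : T'.map ψ * MR'.submatrix id c' = ψ r' • 1 := by
      rw [show MR'.submatrix id c' = (M'.submatrix id c').map ψ from rfl, ← Matrix.map_mul, hT']
      simp [Matrix.map_smul', Matrix.map_one]
    have hMM : MR * MR' = 0 := by
      rw [← Matrix.map_mul, hMM', Matrix.map_zero _ (map_zero ψ)]
    -- the candidate cycles
    let G : ((Fin m → R) × (Fin (M'.map φ).rank → R)) →ₗ[R] (a → R) :=
      Z.coprod (MR'.submatrix id c').mulVecLin
    have hsub : ∀ u, MR'.submatrix id c' *ᵥ u = MR' *ᵥ Function.extend c' u 0 := fun u => by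
      funext i
      simp only [mulVec, dotProduct, submatrix_apply, id_eq]
      exact Fintype.sum_of_injective c' hc' _ _
        (fun j hj => by rw [Function.extend_apply' _ _ _ (by simpa using hj)]; simp)
        fun j => by rw [hc'.extend_apply]
    have hGcyc : ∀ p, MR *ᵥ G p = 0 := fun p => by
      simp only [G, LinearMap.coprod_apply, mulVecLin_apply, mulVec_add, hsub, mulVec_mulVec, hMM,
        zero_mulVec, add_zero]
      exact hZ _
    have hGinj : ∀ p, G p = 0 → p = 0 := fun p hp => by
      simp only [G, LinearMap.coprod_apply, mulVecLin_apply] at hp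
      have h1 : p.1 = 0 := hZ' p.1 (-Function.extend c' p.2 0) (by
        rw [mulVec_neg, ← hsub, eq_neg_of_add_eq_zero_left hp])
      rw [h1, map_zero, zero_add] at hp
      have h2 := congrArg (T'.map ψ *ᵥ ·) hp
      simp only [mulVec_mulVec, hTR', smul_mulVec, one_mulVec, mulVec_zero] at h2
      exact Prod.ext h1 (funext fun j => (hu r' hr').mul_right_eq_zero.1 (congrFun h2 j))
    -- reading off the complementary coordinates
    let Cm := {i : a // i ∉ Set.range c}
    let P : (a → R) →ₗ[R] (Cm → R) := LinearMap.funLeft R R Subtype.val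
    have hP : ∀ v, TR *ᵥ (MR *ᵥ v) = 0 → P v = 0 → v = 0 := fun v hv h0 =>
      eq_zero_of_mulVec c hc TR MR (ψ r) (hu r hr) hTR v hv fun i hi => congrFun h0 ⟨i, hi⟩
    have hcard : Fintype.card Cm = Fintype.card (Fin m ⊕ Fin (M'.map φ).rank) := by
      rw [Fintype.card_sum, Fintype.card_fin, Fintype.card_fin, Fintype.card_subtype_compl,
        Fintype.card_congr (Equiv.ofInjective c hc).symm, Fintype.card_fin]
      omega
    let E : (Cm → R) ≃ₗ[R] ((Fin m → R) × (Fin (M'.map φ).rank → R)) :=
      (LinearEquiv.funCongrLeft R R (Fintype.equivOfCardEq hcard).symm) ≪≫ₗ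
        LinearEquiv.sumArrowLequivProdArrow _ _ R R
    let Φ := E.toLinearMap ∘ₗ P ∘ₗ G
    have hΦ : Function.Injective Φ := by
      rw [← LinearMap.ker_eq_bot, Submodule.eq_bot_iff]
      intro p hp
      refine hGinj p (hP _ (by rw [hGcyc, mulVec_zero]) (E.injective ?_))
      rw [map_zero]
      exact hp
    have hΦs : Function.Surjective Φ := IsArtinian.surjective_of_injective_endomorphism Φ hΦ
    have hker : ∀ v, TR *ᵥ (MR *ᵥ v) = 0 → MR *ᵥ v = 0 := fun v hv => by
      obtain ⟨p, hp⟩ := hΦs (E (P v))
      have : v - G p = 0 := hP _ (by rw [mulVec_sub, hGcyc, sub_zero, hv])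
        (by rw [map_sub, sub_eq_zero]; exact E.injective hp.symm)
      rw [sub_eq_zero.1 this, hGcyc]
    have hD : D.map ψ = MR * ((C.map ψ) * TR) * MR - ψ r • MR := by
      ext i j
      simp [D, MR, TR, Matrix.map_apply, ← Matrix.map_mul]
    have hz : D.map ψ = 0 := by
      refine Matrix.ext_of_mulVec_single fun i => ?_
      let v : a → R := Pi.single i 1
      rw [hD, zero_mulVec]
      show (MR * (C.map ψ * TR) * MR - ψ r • MR) *ᵥ v = 0
      have hC : MR * C.map ψ = MR.submatrix id c := by
        rw [← Matrix.map_mul, hMC]; rfl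
      have h1 : (MR * (C.map ψ * TR) * MR - ψ r • MR) *ᵥ v =
          MR *ᵥ ((C.map ψ * TR * MR) *ᵥ v - ψ r • v) := by
        rw [sub_mulVec, mulVec_sub, mulVec_mulVec, smul_mulVec, mulVec_smul]
        simp only [Matrix.mul_assoc]
      rw [h1]
      refine hker _ ?_
      rw [mulVec_mulVec, mulVec_sub, mulVec_smul, mulVec_mulVec,
        show TR * MR * (C.map ψ * TR * MR) = TR * (MR * C.map ψ) * (TR * MR) by
          simp only [Matrix.mul_assoc],
        hC, hTR, smul_mul, Matrix.one_mul, smul_mulVec, sub_self]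
    exact congrFun (congrFun hz x) y
  have hkill : ∀ x y, ∃ s : A, φ s ≠ 0 ∧ s * D x y = 0 := fun x y => by
    haveI : IsNoetherianRing O :=
      IsLocalization.isNoetherianRing (RingHom.ker φ).primeCompl _ inferInstance
    have h := Ideal.iInf_pow_eq_bot_of_isLocalRing
      (IsLocalRing.maximalIdeal O) (IsLocalRing.maximalIdeal.isMaximal _).ne_top
    have h0 : algebraMap A O (D x y) = 0 := by
      rw [← Ideal.mem_bot, ← h, Ideal.mem_iInf]
      exact fun n => key n x y
    obtain ⟨s, hs⟩ := (IsLocalization.map_eq_zero_iff (RingHom.ker φ).primeCompl _ _).1 h0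
    exact ⟨s.1, s.2, hs⟩
  choose s hs hs0 using hkill
  let S := ∏ x, ∏ y, s x y
  refine ⟨S * r, S • (C * T), ?_, ?_⟩
  · simp only [S, map_mul, map_prod, mul_ne_zero_iff, Finset.prod_ne_zero_iff]
    exact ⟨fun x _ y _ => hs x y, hr⟩
  · have hS : S • D = 0 := by
      ext x y
      obtain ⟨t, ht⟩ : s x y ∣ S := (Finset.dvd_prod_of_mem _ (Finset.mem_univ y)).trans
        (Finset.dvd_prod_of_mem (fun x => ∏ y, s x y) (Finset.mem_univ x))
      rw [Matrix.smul_apply, Matrix.zero_apply, smul_eq_mul, ht, mul_comm (s x y), mul_assoc, hs0, mul_zero]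
    rw [smul_sub, sub_eq_zero] at hS
    rw [Matrix.mul_smul, Matrix.smul_mul, hS, smul_smul]

end Groth.L16.EtaleFibre
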