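import Groth.Agent.L16.EtaleFibre.Unram
import Mathlib.RingTheory.RingHom.Flat
import Mathlib.RingTheory.RingHom.FinitePresentation

/-!
Over a Noetherian base an étale fibre spreads to a good neighbourhood.
-/

set_option autoImplicit false
set_option linter.style.haveILetI false
set_option backward.isDefEq.respectTransparency false
universe u

open CategoryTheory CategoryTheory.Limits AlgebraicGeometry TopologicalSpace Opposite
open Groth.L17 Groth.L17.BC Groth.L17.BC.Classes
open scoped TensorProduct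

noncomputable section

namespace Groth.L16.EtaleFibre

theorem notMem_primeIdealOf_iff {S : Scheme.{u}} {V : S.Opens} (hV : IsAffineOpen V) {y : S} (hy : y ∈ V)
    (r : Γ(S, V)) : r ∉ (hV.primeIdealOf ⟨y, hy⟩).asIdeal ↔ y ∈ S.basicOpen r := by
  have h : hV.fromSpec (hV.primeIdealOf ⟨y, hy⟩) = y := hV.fromSpec_primeIdealOf ⟨y, hy⟩
  conv_rhs => rw [← h]
  show _ ↔ hV.primeIdealOf ⟨y, hy⟩ ∈ hV.fromSpec ⁻¹ᵁ S.basicOpen r
  rw [hV.fromSpec_preimage_basicOpen]
  rfl

theorem isUnit_appTop {S S' : Scheme.{u}} (g : S' ⟶ S) (r : Γ(S, ⊤)) (h : ∀ z, g z ∈ S.basicOpen r) :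
    IsUnit (g.appTop r) := by
  refine RingedSpace.isUnit_of_isUnit_germ S'.toRingedSpace ⊤ _ fun z _ => ?_
  refine (S'.mem_basicOpen (g.appTop r) z trivial).1 ?_
  rw [← Scheme.preimage_basicOpen_top]
  exact h z

theorem map_smul_matrix {A B : Type u} [CommRing A] [CommRing B] (φ : A →+* B) {a b : Type} (r : A) (M : Matrix b a A) :
    (r • M).map φ = φ r • M.map φ := by
  ext; simp

variable {X S : Scheme.{u}}

/-- Near an étale fibre over a Noetherian affine base the family is good. -/
theorem exists_good_of_affine [IsAffine S] [IsLocallyNoetherian S] (f : X ⟶ S) [IsProper f] [Flat f]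
    [LocallyOfFinitePresentation f] (s : S) (het : Algebra.Etale (S.residueField s) Γ(f.fiber s, ⊤)) :
    ∃ (S₁ : Scheme.{u}) (_ : IsAffine S₁) (j : S₁ ⟶ S) (_ : IsOpenImmersion j),
      s ∈ Set.range j ∧ Good (pullback.snd f j) := by
  classical
  haveI := Groth.L17.PushQCoh.hasInjectiveResolutions X
  haveI : Coh.IsQCoh (Coh.structureModule X) := isQCoh_structure
  obtain ⟨l⟩ := nonempty_freeBC0 f (Coh.structureModule X) (isAffineOpen_top S) isFP_structure (isFlatOver_structure f)
  haveI : Nontrivial Γ(S, ⊤) := (S.presheaf.germ ⊤ s trivial).hom.domain_nontrivial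
  obtain ⟨a, a₀, b, M, M', hMM', hsplit, hconv, hneg, hdata⟩ := exists_matrices l
  obtain ⟨r, σ, hr, hσ⟩ := hconv _ (split_of_etale f s het (isAffineOpen_top S) trivial l)
  obtain ⟨r', σ', hr', hσ'⟩ := hneg (isAffineOpen_top S) s trivial
  rw [notMem_primeIdealOf_iff] at hr'
  change r ∉ ((isAffineOpen_top S).primeIdealOf ⟨s, trivial⟩).asIdeal at hr
  rw [notMem_primeIdealOf_iff] at hr
  let U : S.Opens := S.basicOpen (r * r')
  have hUr : U ≤ S.basicOpen r := (S.basicOpen_mul r r').trans_le inf_le_left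
  have hUr' : U ≤ S.basicOpen r' := (S.basicOpen_mul r r').trans_le inf_le_right
  have hsU : s ∈ U := by
    show s ∈ S.basicOpen (r * r')
    rw [S.basicOpen_mul]; exact ⟨hr, hr'⟩
  haveI : IsAffine U.toScheme := (isAffineOpen_top S).basicOpen (r * r')
  let f' := pullback.snd f U.ι
  have sq := IsPullback.of_hasPullback f U.ι
  have hU : ∀ z, U.ι z ∈ U := fun z => z.2
  -- base change
  have hpush : ∀ {X' S' : Scheme.{u}} [IsAffine S'] {g : S' ⟶ U.toScheme} {g₁ : X' ⟶ S'} {g' : X' ⟶ pullback f U.ι},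
      IsPullback g' g₁ f' g → IsPushout f'.appTop g.appTop g'.appTop g₁.appTop := by
    intro X' S' _ g g₁ g' sq'
    have hsp : ∀ {T : Scheme.{u}} (k : T ⟶ U.toScheme) (z : T),
        l.free.Split (isAffineOpen_top S) 0 (Set.mem_univ ((k ≫ U.ι) z) : (k ≫ U.ι) z ∈ (⊤ : S.Opens)) :=
      fun k z => hsplit r σ hσ _ ((notMem_primeIdealOf_iff _ _ r).2 (hUr (hU (k z))))
    have h1 := isPushout_of_split l (sq'.paste_horiz sq) (hsp g)
    have h2 := isPushout_of_split l sq fun z => hsp (𝟙 _) z
    rw [Scheme.Hom.comp_appTop, Scheme.Hom.comp_appTop] at h1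
    refine (IsPushout.of_left h1.flip ?_ h2.flip).flip
    rw [← Scheme.Hom.comp_appTop, ← Scheme.Hom.comp_appTop, sq'.w]
  -- functions form a finite projective module
  let B := Γ(U.toScheme, ⊤)
  let G := Γ(pullback f U.ι, ⊤)
  letI : Algebra B G := f'.appTop.hom.toAlgebra
  obtain ⟨hGfin, hGproj⟩ : Module.Finite B G ∧ Module.Projective B G := by
    let q : Sq f U.ι f' (pullback.fst f U.ι) ⊤ ⊤ := ⟨isAffineOpen_top S, isAffineOpen_top _, fun _ _ => trivial, sq⟩
    obtain ⟨Θ, hΘ, hΘk⟩ := hdata q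
    obtain ⟨Ξ, hΞ⟩ := exists_sections_equiv (X := X) f' (pullback.fst f U.ι)
    let φ := q.φ.hom
    have hφ : ∀ x, φ x = U.ι.appTop x := fun x => congr($(U.ι.appLE_eq_app) x)
    obtain ⟨u, hu⟩ : IsUnit (φ r) := by rw [hφ]; exact isUnit_appTop _ _ fun z => hUr (hU z)
    obtain ⟨u', hu'⟩ : IsUnit (φ r') := by rw [hφ]; exact isUnit_appTop _ _ fun z => hUr' (hU z)
    have hMσ : M.map φ * ((u⁻¹ : Bˣ) : B) • σ.map φ * M.map φ = M.map φ := by
      rw [Matrix.mul_smul, Matrix.smul_mul, ← Matrix.map_mul, ← Matrix.map_mul, hσ, map_smul_matrix φ,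
        smul_smul, ← hu, Units.inv_mul, one_smul]
    have hMσ' : M'.map φ * ((u'⁻¹ : Bˣ) : B) • σ'.map φ * M'.map φ = M'.map φ := by
      rw [Matrix.mul_smul, Matrix.smul_mul, ← Matrix.map_mul, ← Matrix.map_mul, hσ', map_smul_matrix φ,
        smul_smul, ← hu', Units.inv_mul, one_smul]
    obtain ⟨h1, h2⟩ := finite_projective_of_split (M.map φ) (M'.map φ)
      (by rw [← Matrix.map_mul, hMM', Matrix.map_zero _ (map_zero φ)]) _ hMσ _ hMσ' Θ hΘ hΘk
    let J : Γ((Scheme.Modules.pushforward f').obj ((Scheme.Modules.pullback (pullback.fst f U.ι)).obj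
        (Coh.structureModule X)), ⊤) ≃ₗ[B] G :=
      { Ξ with map_smul' := fun b t => (hΞ b t).trans (Algebra.smul_def b (Ξ t)).symm }
    exact ⟨Module.Finite.equiv J, Module.Projective.of_equiv J⟩
  haveI : Module.FinitePresentation B G := Module.finitePresentation_of_projective B G
  haveI : Algebra.FinitePresentation B G := Algebra.FinitePresentation.of_finitePresentation B G
  haveI : Module.Finite G Ω[G⁄B] := inferInstance
  haveI : Module.Finite B Ω[G⁄B] := Module.Finite.trans G _
  -- differentials vanish near the point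
  let κ := S.residueField s
  let k : Spec κ ⟶ U.toScheme := IsOpenImmersion.lift U.ι (S.fromSpecResidueField s) (by
    rw [Scheme.range_fromSpecResidueField, Scheme.Opens.range_ι]
    exact Set.singleton_subset_iff.2 hsU)
  have hk : k ≫ U.ι = S.fromSpecResidueField s := IsOpenImmersion.lift_fac _ _ _
  let i : f.fiber s ⟶ pullback f U.ι := sq.lift (f.fiberι s) (f.fiberToSpecResidueField s ≫ k)
    (by rw [Category.assoc, hk]; exact f.fiber_fac s)
  have sqk : IsPullback i (f.fiberToSpecResidueField s) f' k :=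
    IsPullback.of_right (by rw [sq.lift_fst, hk]; exact IsPullback.of_hasPullback f _) (sq.lift_snd _ _ _) sq
  have hunr : (f.fiberToSpecResidueField s).appTop.hom.FormallyUnramified := by
    have h1 : ((f.fiberToSpecResidueField s).appTop.hom.comp (Scheme.ΓSpecIso κ).inv.hom).Etale :=
      RingHom.etale_algebraMap.2 het
    have h2 := RingHom.Etale.respectsIso.2 _ (Scheme.ΓSpecIso κ).commRingCatIsoToRingEquiv h1
    have e : ((f.fiberToSpecResidueField s).appTop.hom.comp (Scheme.ΓSpecIso κ).inv.hom).comp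
        (Scheme.ΓSpecIso κ).commRingCatIsoToRingEquiv.toRingHom = (f.fiberToSpecResidueField s).appTop.hom := by
      ext x
      exact congrArg _ ((Scheme.ΓSpecIso κ).commRingCatIsoToRingEquiv.symm_apply_apply x)
    rw [e] at h2
    exact (RingHom.Etale.iff_flat_and_formallyUnramified.1 h2).2.1
  letI : Field Γ(Spec κ, ⊤) :=
    ((Scheme.ΓSpecIso κ).commRingCatIsoToRingEquiv.toMulEquiv.isField (Field.toIsField κ)).toField
  letI : Algebra B Γ(Spec κ, ⊤) := k.appTop.hom.toAlgebra
  haveI : Subsingleton (Γ(Spec κ, ⊤) ⊗[B] Ω[G⁄B]) :=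
    subsingleton_tensor_omega f'.appTop k.appTop i.appTop _ (hpush sqk) hunr
  obtain ⟨t, ht, hkill⟩ := exists_smul_eq_zero (A := B) Ω[G⁄B] Γ(Spec κ, ⊤)
  have ht' : k.appTop t ≠ 0 := ht
  let U₂ := U.toScheme.basicOpen t
  haveI : IsAffine U₂.toScheme := (isAffineOpen_top U.toScheme).basicOpen t
  let j : U₂.toScheme ⟶ S := U₂.ι ≫ U.ι
  refine ⟨U₂.toScheme, inferInstance, j, inferInstance, ?_, ?_⟩
  · let z : Spec κ := (⊥ : PrimeSpectrum κ)
    have hz : k z ∈ U₂ := by
      show z ∈ k ⁻¹ᵁ U.toScheme.basicOpen t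
      rw [Scheme.preimage_basicOpen_top, Scheme.mem_basicOpen_top]
      exact (isUnit_iff_ne_zero.2 ht').map _
    refine ⟨⟨k z, hz⟩, ?_⟩
    show U.ι (k z) = s
    rw [← Scheme.Hom.comp_apply, hk, Scheme.fromSpecResidueField_apply]
  · let f₂ := pullback.snd f j
    have sqj := IsPullback.of_hasPullback f j
    let g₂ : pullback f j ⟶ pullback f U.ι := sq.lift (pullback.fst f j) (f₂ ≫ U₂.ι)
      (by rw [Category.assoc]; exact sqj.w)
    have sq2 : IsPullback g₂ f₂ f' U₂.ι :=
      IsPullback.of_right (by rw [sq.lift_fst]; exact sqj) (sq.lift_snd _ _ _) sq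
    have hp := hpush sq2
    have hfin : f₂.appTop.hom.Finite :=
      pushout_right RingHom.finite_isStableUnderBaseChange RingHom.finite_respectsIso hp
        (RingHom.finite_algebraMap.2 hGfin)
    refine ⟨hfin, RingHom.Etale.iff_flat_and_formallyUnramified.2 ⟨?_, ?_, ?_⟩, fun {X' S'} _ {g g₁ g'} sq' => ?_⟩
    · exact pushout_right RingHom.Flat.isStableUnderBaseChange RingHom.Flat.respectsIso hp
        (RingHom.flat_algebraMap_iff.2 inferInstance)
    · letI : Algebra B Γ(U₂.toScheme, ⊤) := U₂.ι.appTop.hom.toAlgebra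
      letI : Algebra Γ(U₂.toScheme, ⊤) Γ(pullback f j, ⊤) := f₂.appTop.hom.toAlgebra
      letI : Algebra G Γ(pullback f j, ⊤) := g₂.appTop.hom.toAlgebra
      letI : Algebra B Γ(pullback f j, ⊤) := (f'.appTop ≫ g₂.appTop).hom.toAlgebra
      haveI : IsScalarTower B G Γ(pullback f j, ⊤) := IsScalarTower.of_algebraMap_eq fun _ => rfl
      haveI : IsScalarTower B Γ(U₂.toScheme, ⊤) Γ(pullback f j, ⊤) :=
        IsScalarTower.of_algebraMap_eq fun x => congr($(hp.w) x)
      haveI : Algebra.IsPushout B Γ(U₂.toScheme, ⊤) G Γ(pullback f j, ⊤) :=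
        CommRingCat.isPushout_iff_isPushout.1 hp.flip
      show RingHom.FormallyUnramified (algebraMap Γ(U₂.toScheme, ⊤) Γ(pullback f j, ⊤))
      rw [RingHom.formallyUnramified_algebraMap, Algebra.formallyUnramified_iff]
      haveI : Subsingleton (Γ(U₂.toScheme, ⊤) ⊗[B] Ω[G⁄B]) := by
        refine subsingleton_of_forall_eq 0 fun w => ?_
        have hunit : IsUnit (algebraMap B Γ(U₂.toScheme, ⊤) t) := isUnit_appTop U₂.ι t fun z => z.2
        induction w using TensorProduct.induction_on with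
        | zero => rfl
        | add x y hx hy => rw [hx, hy, add_zero]
        | tmul c m =>
          obtain ⟨v, hv⟩ := hunit
          rw [← one_mul c, ← v.inv_mul, hv, mul_assoc, ← Algebra.smul_def, mul_smul_comm,
            TensorProduct.smul_tmul, hkill, TensorProduct.tmul_zero]
      exact (KaehlerDifferential.tensorKaehlerEquivBase B Γ(U₂.toScheme, ⊤) G
        Γ(pullback f j, ⊤)).symm.toEquiv.subsingleton
    · exact pushout_right RingHom.finitePresentation_isStableUnderBaseChange RingHom.finitePresentation_respectsIso hp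
        (RingHom.finitePresentation_algebraMap.2 inferInstance)
    · have h1 := hpush (sq'.paste_horiz sq2)
      rw [Scheme.Hom.comp_appTop, Scheme.Hom.comp_appTop] at h1
      refine (IsPushout.of_left h1.flip ?_ hp.flip).flip
      rw [← Scheme.Hom.comp_appTop, ← Scheme.Hom.comp_appTop, sq'.w]

end Groth.L16.EtaleFibre
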