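import Groth.Agent.L16.EtaleFibre.General
import Groth.Agent.L00.SteinNorm

/-!
The Stein factorisation near good fibres: finite étale and stable under every base change.
-/

set_option autoImplicit false
set_option linter.style.haveILetI false
set_option backward.isDefEq.respectTransparency false
universe u

open CategoryTheory CategoryTheory.Limits AlgebraicGeometry TopologicalSpace Opposite

noncomputable section

namespace Groth.L16.EtaleFibre

variable {X S : Scheme.{u}} (f : X ⟶ S)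

/-- The neighbourhood data on sections. -/
def GoodAt (U : S.Opens) : Prop :=
  (f.app U).hom.Finite ∧ (f.app U).hom.Etale ∧
    ∀ {X' T : Scheme.{u}} (g : T ⟶ S) (g' : X' ⟶ X) (f' : X' ⟶ T) (_ : IsPullback g' f' f g)
      (W : T.Opens) (_ : IsAffineOpen W) (e : W ≤ g ⁻¹ᵁ U) (e' : f' ⁻¹ᵁ W ≤ g' ⁻¹ᵁ (f ⁻¹ᵁ U)),
      IsPushout (f.app U) (g.appLE U W e) (g'.appLE (f ⁻¹ᵁ U) (f' ⁻¹ᵁ W) e') (f'.app W)

theorem exists_goodAt [IsProper f] [Flat f] [LocallyOfFinitePresentation f] (s : S)
    (het : Algebra.Etale (S.residueField s) Γ(f.fiber s, ⊤)) :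
    ∃ U : S.Opens, IsAffineOpen U ∧ s ∈ U ∧ GoodAt f U := by
  obtain ⟨U, hU, hsU, hg⟩ := exists_good f s het
  haveI : IsAffine U.toScheme := hU
  have sq := IsPullback.of_hasPullback f U.ι
  have sqR : IsPullback (f ⁻¹ᵁ U).ι (f ∣_ U) f U.ι := (isPullback_morphismRestrict f U).flip
  have h := hg.of_isPullback (g := 𝟙 U.toScheme) (f' := f ∣_ U) (g' := sq.lift (f ⁻¹ᵁ U).ι (f ∣_ U) sqR.w)
    (IsPullback.of_right (by rw [sq.lift_fst, Category.id_comp]; exact sqR)
      (by rw [sq.lift_snd, Category.comp_id]) sq)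
  have hr : f ∣_ U = f.resLE U (f ⁻¹ᵁ U) le_rfl := (Scheme.Hom.resLE_eq_morphismRestrict f).symm
  have e₀ : (f ∣_ U).appTop = U.topIso.hom ≫ f.app U ≫ (f ⁻¹ᵁ U).topIso.inv := by
    rw [hr, Scheme.Hom.appTop, Scheme.Hom.resLE_app_top, Scheme.Hom.appLE_eq_app]
  have key : ∀ {P : ∀ {R S : Type u} [CommRing R] [CommRing S], (R →+* S) → Prop}, RingHom.RespectsIso P →
      P (f ∣_ U).appTop.hom → P (f.app U).hom := fun {P} hP hh => by
    have h1 := hP.2 _ U.topIso.symm.commRingCatIsoToRingEquiv (hP.1 _ (f ⁻¹ᵁ U).topIso.commRingCatIsoToRingEquiv hh)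
    have e : ((f ⁻¹ᵁ U).topIso.commRingCatIsoToRingEquiv.toRingHom.comp (f ∣_ U).appTop.hom).comp
        U.topIso.symm.commRingCatIsoToRingEquiv.toRingHom = (f.app U).hom := by
      show (U.topIso.inv ≫ (f ∣_ U).appTop ≫ (f ⁻¹ᵁ U).topIso.hom).hom = _
      rw [e₀]; simp only [Category.assoc, Iso.inv_hom_id_assoc, Iso.inv_hom_id, Category.comp_id]
    rw [e] at h1
    exact h1
  refine ⟨U, hU, hsU, key RingHom.finite_respectsIso h.finite, key RingHom.Etale.respectsIso h.etale, ?_⟩
  intro X' T g g' f' H W hW e e'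
  haveI : IsAffine W.toScheme := hW
  have hsq := Scheme.Hom.isPullback_resLE H (US := U) (UT := W) (UX := f ⁻¹ᵁ U) (UY := f' ⁻¹ᵁ W) e le_rfl
    (inf_eq_right.2 e').symm
  rw [← hr] at hsq
  have hp := h.isPushout hsq
  simp only [Scheme.Hom.appTop, Scheme.Hom.resLE_app_top] at hp
  refine hp.of_iso U.topIso (f ⁻¹ᵁ U).topIso W.topIso (f' ⁻¹ᵁ W).topIso ?_ ?_ ?_ ?_
  · rw [show (f ∣_ U).app ⊤ = (f ∣_ U).appTop from rfl, e₀]; simp
  · simp
  · simp
  · simp [Scheme.Hom.app_eq_appLE]

variable {f}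

/-- Global functions upstairs are those of the normalization. -/
theorem isIso_appLE_toNormalization [UniversallyClosed f] [QuasiSeparated f] (U : S.Opens)
    (e : f ⁻¹ᵁ U ≤ f.toNormalization ⁻¹ᵁ (f.fromNormalization ⁻¹ᵁ U)) :
    IsIso (f.toNormalization.appLE (f.fromNormalization ⁻¹ᵁ U) (f ⁻¹ᵁ U) e) := by
  haveI := Groth.L00.SteinNorm.isIso_toNormalization_app f (f.fromNormalization ⁻¹ᵁ U)
  have h : f.toNormalization ⁻¹ᵁ (f.fromNormalization ⁻¹ᵁ U) = f ⁻¹ᵁ U := by
    rw [← Scheme.Hom.comp_preimage, f.toNormalization_fromNormalization]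
  rw [Scheme.Hom.appLE, show (homOfLE e).op = (eqToHom h.symm).op from rfl]
  infer_instance

theorem le_toNormalization [QuasiCompact f] [QuasiSeparated f] (U : S.Opens) :
    f ⁻¹ᵁ U ≤ f.toNormalization ⁻¹ᵁ (f.fromNormalization ⁻¹ᵁ U) := by
  rw [← Scheme.Hom.comp_preimage, f.toNormalization_fromNormalization]

theorem fromNormalization_comp [QuasiCompact f] [QuasiSeparated f] (U : S.Opens) :
    f.fromNormalization.app U ≫
      f.toNormalization.appLE (f.fromNormalization ⁻¹ᵁ U) (f ⁻¹ᵁ U) (le_toNormalization U) = f.app U := by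
  rw [Scheme.Hom.app_eq_appLE, Scheme.Hom.appLE_comp_appLE, Scheme.Hom.app_eq_appLE]
  congr 1
  exact f.toNormalization_fromNormalization

/-- Near a good neighbourhood the Stein factorisation is finite étale. -/
theorem finite_etale_fromNormalization [IsProper f] [Flat f] [LocallyOfFinitePresentation f]
    (het : ∀ s : S, Algebra.Etale (S.residueField s) Γ(f.fiber s, ⊤)) :
    IsFinite f.fromNormalization ∧ Etale f.fromNormalization := by
  have key : ∀ {P : ∀ {R S : Type u} [CommRing R] [CommRing S], (R →+* S) → Prop}, RingHom.RespectsIso P →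
      (∀ {U : S.Opens}, GoodAt f U → P (f.app U).hom) →
      ∀ {U : S.Opens}, GoodAt f U → P (f.fromNormalization ∣_ U).appTop.hom := by
    intro P hP hg U hU
    haveI := isIso_appLE_toNormalization (f := f) U (le_toNormalization U)
    let ψ := f.toNormalization.appLE (f.fromNormalization ⁻¹ᵁ U) (f ⁻¹ᵁ U) (le_toNormalization U)
    have h1 : f.fromNormalization.app U = f.app U ≫ inv ψ := by
      rw [IsIso.eq_comp_inv]; exact fromNormalization_comp U
    have e₀ : (f.fromNormalization ∣_ U).appTop =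
        U.topIso.hom ≫ f.fromNormalization.app U ≫ (f.fromNormalization ⁻¹ᵁ U).topIso.inv := by
      rw [← Scheme.Hom.resLE_eq_morphismRestrict, Scheme.Hom.appTop, Scheme.Hom.resLE_app_top,
        Scheme.Hom.appLE_eq_app]
    rw [e₀, h1, Category.assoc]
    simp only [CommRingCat.hom_comp]
    exact hP.2 _ U.topIso.commRingCatIsoToRingEquiv
      (hP.1 _ (asIso (inv ψ) ≪≫ (f.fromNormalization ⁻¹ᵁ U).topIso.symm).commRingCatIsoToRingEquiv (hg hU))
  have hcov : ∀ s : S, ∃ U : S.Opens, s ∈ U ∧ IsAffine U.toScheme ∧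
      IsAffine (f.fromNormalization ⁻¹ᵁ U).toScheme ∧ GoodAt f U := fun s => by
    obtain ⟨U, hU, hsU, hg⟩ := exists_goodAt f s (het s)
    exact ⟨U, hsU, hU, hU.preimage f.fromNormalization, hg⟩
  constructor
  · refine IsZariskiLocalAtTarget.of_forall_exists_morphismRestrict (P := @IsFinite) fun s => ?_
    obtain ⟨U, hsU, hU, hU', hg⟩ := hcov s
    exact ⟨U, hsU, (HasAffineProperty.iff_of_isAffine (P := @IsFinite)).2
      ⟨hU', key RingHom.finite_respectsIso (fun h => h.1) hg⟩⟩
  · refine IsZariskiLocalAtTarget.of_forall_exists_morphismRestrict (P := @Etale) fun s => ?_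
    obtain ⟨U, hsU, hU, hU', hg⟩ := hcov s
    exact ⟨U, hsU, (HasRingHomProperty.iff_of_isAffine (P := @Etale)).2
      (key RingHom.Etale.respectsIso (fun h => h.2.1) hg)⟩

set_option backward.defeqAttrib.useBackward true in
/-- With étale functions on all fibres the Stein factorisation commutes with every base change. -/
theorem isIso_normalizationPullback [IsProper f] [Flat f] [LocallyOfFinitePresentation f]
    (het : ∀ s : S, Algebra.Etale (S.residueField s) Γ(f.fiber s, ⊤)) {T : Scheme.{u}} (g : T ⟶ S) :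
    IsIso (f.normalizationPullback g) := by
  apply IsZariskiLocalAtTarget.of_forall_exists_morphismRestrict (P := MorphismProperty.isomorphisms Scheme)
    fun x => ?_
  obtain ⟨U, hU, hxU, hg, -, hpush⟩ := exists_goodAt f _ (het ((pullback.snd f.fromNormalization g ≫ g) x))
  obtain ⟨_, ⟨W, hW, rfl⟩, hxW, hWU : W ≤ g ⁻¹ᵁ U⟩ :=
    T.isBasis_affineOpens.exists_subset_of_mem_open (a := pullback.snd f.fromNormalization g x) hxU (g ⁻¹ᵁ U).2
  let p₁ := pullback.fst f.fromNormalization g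
  let p₂ := pullback.snd f.fromNormalization g
  let f' := pullback.snd f g
  let g' := pullback.fst f g
  let n := f.normalizationPullback g
  let N := f.fromNormalization ⁻¹ᵁ U
  let W' := p₂ ⁻¹ᵁ W
  refine ⟨W', hxW, (isIso_morphismRestrict_iff_isIso_app _ (U := W') (hW.preimage _)).mpr ?_⟩
  have hle : W' ≤ p₁ ⁻¹ᵁ N := by
    simp only [W', N, p₁, p₂, ← Scheme.Hom.comp_preimage, pullback.condition]
    exact (pullback.snd f.fromNormalization g).preimage_mono hWU
  have hle' : f' ⁻¹ᵁ W ≤ g' ⁻¹ᵁ (f ⁻¹ᵁ U) := by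
    simp only [f', g', ← Scheme.Hom.comp_preimage, pullback.condition]
    exact (pullback.snd f g).preimage_mono hWU
  -- the two base change squares on sections
  have hP : IsPushout (f.fromNormalization.app U) (g.appLE U W hWU) (p₁.appLE N W' hle) (p₂.app W) := by
    have h := (isIso_pushoutSection_iff (IsPullback.of_hasPullback f.fromNormalization g) hWU (UX := N) le_rfl
      (UY := W') (inf_eq_right.2 hle).symm).1
      (isIso_pushoutSection_of_isAffineOpen _ _ _ _ hU hW (hU.preimage _))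
    simpa only [Scheme.Hom.app_eq_appLE] using h
  have hX : IsPushout (f.app U) (g.appLE U W hWU) (g'.appLE (f ⁻¹ᵁ U) (f' ⁻¹ᵁ W) hle') (f'.app W) :=
    hpush g g' f' (IsPullback.of_hasPullback f g) W hW hWU hle'
  -- the composite with the Stein map upstairs
  let lam := f'.toNormalization ≫ n
  have h1 : lam ≫ p₂ = f' := by
    simp only [lam, n, p₂, Category.assoc, Scheme.Hom.normalizationPullback_snd]
    exact f'.toNormalization_fromNormalization
  have h2 : lam ≫ p₁ = g' ≫ f.toNormalization := by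
    simp only [lam, n, p₁, Category.assoc]
    exact f.toNormalization_normalizationPullback_fst g
  have hl : f' ⁻¹ᵁ W ≤ lam ⁻¹ᵁ W' := by
    simp only [W', ← Scheme.Hom.comp_preimage, h1, le_refl]
  have hθ : IsIso (lam.appLE W' (f' ⁻¹ᵁ W) hl) := by
    haveI := isIso_appLE_toNormalization (f := f) U (le_toNormalization U)
    let ψ := f.toNormalization.appLE N (f ⁻¹ᵁ U) (le_toNormalization U)
    have hT : IsPushout (f.fromNormalization.app U ≫ ψ) (g.appLE U W hWU)
        (g'.appLE (f ⁻¹ᵁ U) (f' ⁻¹ᵁ W) hle') (f'.app W) := by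
      rw [fromNormalization_comp]; exact hX
    have hp2 : p₂.app W ≫ lam.appLE W' (f' ⁻¹ᵁ W) hl = f'.app W := by
      rw [Scheme.Hom.app_eq_appLE, Scheme.Hom.appLE_comp_appLE, Scheme.Hom.app_eq_appLE]
      congr 1
    have hc : ψ ≫ g'.appLE (f ⁻¹ᵁ U) (f' ⁻¹ᵁ W) hle' = p₁.appLE N W' hle ≫ lam.appLE W' (f' ⁻¹ᵁ W) hl := by
      rw [Scheme.Hom.appLE_comp_appLE, Scheme.Hom.appLE_comp_appLE]
      congr 1
      exact h2.symm
    rw [← hp2] at hT
    haveI : IsIso ψ := inferInstance
    exact (IsPushout.of_left hT hc hP).isIso_inr_of_isIso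
  have hn : f'.fromNormalization ⁻¹ᵁ W = n ⁻¹ᵁ W' := by
    show f'.fromNormalization ⁻¹ᵁ W = n ⁻¹ᵁ (p₂ ⁻¹ᵁ W)
    rw [← Scheme.Hom.comp_preimage, f.normalizationPullback_snd]
  have hmid : f' ⁻¹ᵁ W ≤ f'.toNormalization ⁻¹ᵁ (n ⁻¹ᵁ W') := by
    rw [← hn]; exact le_toNormalization W
  have hfac : n.app W' ≫ f'.toNormalization.appLE (n ⁻¹ᵁ W') (f' ⁻¹ᵁ W) hmid = lam.appLE W' (f' ⁻¹ᵁ W) hl := by
    rw [Scheme.Hom.app_eq_appLE, Scheme.Hom.appLE_comp_appLE]
  have hmidIso : IsIso (f'.toNormalization.appLE (n ⁻¹ᵁ W') (f' ⁻¹ᵁ W) hmid) := by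
    haveI : IsProper f' := MorphismProperty.pullback_snd f g inferInstance
    haveI := Groth.L00.SteinNorm.isIso_toNormalization_app f' (n ⁻¹ᵁ W')
    have h : f'.toNormalization ⁻¹ᵁ (n ⁻¹ᵁ W') = f' ⁻¹ᵁ W := by
      rw [← hn, ← Scheme.Hom.comp_preimage, f'.toNormalization_fromNormalization]
    rw [Scheme.Hom.appLE, show (homOfLE hmid).op = (eqToHom h.symm).op from rfl]
    infer_instance
  rw [← hfac] at hθ
  exact IsIso.of_isIso_comp_right (n.app W') (f'.toNormalization.appLE (n ⁻¹ᵁ W') (f' ⁻¹ᵁ W) hmid)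

/-- Geometrically reduced fibres have étale functions. -/
theorem etale_of_reduced_geometric_fibres [IsProper f]
    (hred : ∀ (Ω : Type u) [Field Ω] [IsAlgClosed Ω] (σ : Spec (CommRingCat.of Ω) ⟶ S),
      AlgebraicGeometry.IsReduced (pullback f σ)) (s : S) :
    Algebra.Etale (S.residueField s) Γ(f.fiber s, ⊤) := by
  refine etale_fibre_of_geometric f s ?_
  let a := Spec.map (CommRingCat.ofHom (algebraMap (S.residueField s) (AlgebraicClosure (S.residueField s))))
  haveI := hred (AlgebraicClosure (S.residueField s)) (a ≫ S.fromSpecResidueField s)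
  exact isReduced_of_isOpenImmersion (pullbackLeftPullbackSndIso f (S.fromSpecResidueField s) a).hom

end Groth.L16.EtaleFibre
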