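import Groth.Agent.L16.EtaleFibre.Good

/-!
Projectivity of classes of split matrices and unramifiedness from one fibre.
-/

set_option autoImplicit false
set_option linter.style.haveILetI false
universe u

open scoped TensorProduct
open Matrix CategoryTheory

namespace Groth.L16.EtaleFibre

/-- The classes of a split three term matrix complex form a finite projective module. -/
theorem finite_projective_of_split {B : Type u} [CommRing B] {a a₀ b : Type} [Fintype a] [Fintype a₀] [Fintype b]
    (M : Matrix b a B) (M' : Matrix a a₀ B) (hMM' : M * M' = 0) (σ : Matrix a b B) (hσ : M * σ * M = M)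
    (σ' : Matrix a₀ a B) (hσ' : M' * σ' * M' = M') {T : Type u} [AddCommGroup T] [Module B T]
    (Θ : LinearMap.ker M.mulVecLin →ₗ[B] T) (hs : Function.Surjective Θ)
    (hk : ∀ z, Θ z = 0 ↔ ∃ u, M'.mulVec u = z.1) :
    Module.Finite B T ∧ Module.Projective B T := by
  classical
  let π : (a → B) →ₗ[B] LinearMap.ker M.mulVecLin :=
    LinearMap.codRestrict _ (LinearMap.id - (σ * M).mulVecLin) fun v => by
      rw [LinearMap.mem_ker, LinearMap.sub_apply, map_sub, LinearMap.id_apply, mulVecLin_apply, mulVecLin_apply,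
        mulVecLin_apply, mulVec_mulVec, ← Matrix.mul_assoc, hσ, sub_self]
  have hπ : ∀ z : LinearMap.ker M.mulVecLin, π z.1 = z := fun z => Subtype.ext (by
    show z.1 - (σ * M).mulVec z.1 = z.1
    have hz : M.mulVec z.1 = 0 := z.2
    rw [← mulVec_mulVec, hz, mulVec_zero, sub_zero])
  let p : (a → B) →ₗ[B] T := Θ ∘ₗ π
  have hp : Function.Surjective p := fun t => by
    obtain ⟨z, rfl⟩ := hs t
    exact ⟨z.1, congrArg Θ (hπ z)⟩
  let w : LinearMap.ker M.mulVecLin →ₗ[B] (a → B) :=
    (LinearMap.id - (M' * σ').mulVecLin) ∘ₗ Submodule.subtype _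
  have hw : ∀ z, Θ z = 0 → w z = 0 := fun z hz => by
    obtain ⟨u, hu⟩ := (hk z).1 hz
    show z.1 - (M' * σ').mulVec z.1 = 0
    rw [← hu, mulVec_mulVec, hσ', sub_self]
  let sec : T →ₗ[B] (a → B) := (LinearMap.ker Θ).liftQ w (fun z hz => hw z hz) ∘ₗ
    (Θ.quotKerEquivOfSurjective hs).symm.toLinearMap
  refine ⟨Module.Finite.of_surjective p hp, Module.Projective.of_split sec p (LinearMap.ext fun t => ?_)⟩
  obtain ⟨z, rfl⟩ := hs t
  have h1 : (Θ.quotKerEquivOfSurjective hs).symm (Θ z) = Submodule.Quotient.mk z := by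
    apply (Θ.quotKerEquivOfSurjective hs).injective
    rw [LinearEquiv.apply_symm_apply, LinearMap.quotKerEquivOfSurjective_apply_mk]
  show Θ (π ((LinearMap.ker Θ).liftQ w (fun z hz => hw z hz) ((Θ.quotKerEquivOfSurjective hs).symm (Θ z)))) = Θ z
  rw [h1, Submodule.liftQ_apply]
  show Θ (π (z.1 - (M' * σ').mulVec z.1)) = Θ z
  rw [map_sub, map_sub, hπ, sub_eq_self]
  refine (hk _).2 ⟨σ'.mulVec z.1, ?_⟩
  show _ = (M' * σ').mulVec z.1 - (σ * M).mulVec ((M' * σ').mulVec z.1)
  rw [mulVec_mulVec, mulVec_mulVec, Matrix.mul_assoc σ M, ← Matrix.mul_assoc M M', hMM', Matrix.zero_mul,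
    Matrix.mul_zero, zero_mulVec, sub_zero]

/-- An unramified base change to a field kills the base change of differentials. -/
theorem subsingleton_tensor_omega {B G K H : CommRingCat.{u}} (a : B ⟶ G) (b : B ⟶ K) (c : G ⟶ H) (d : K ⟶ H)
    (sq : IsPushout a b c d) (h : d.hom.FormallyUnramified) :
    letI := a.hom.toAlgebra
    letI := b.hom.toAlgebra
    Subsingleton (K ⊗[B] Ω[G⁄B]) := by
  letI := a.hom.toAlgebra
  letI := b.hom.toAlgebra
  letI := c.hom.toAlgebra
  letI := d.hom.toAlgebra
  letI : Algebra B H := (a ≫ c).hom.toAlgebra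
  haveI : IsScalarTower B G H := IsScalarTower.of_algebraMap_eq fun _ => rfl
  haveI : IsScalarTower B K H := IsScalarTower.of_algebraMap_eq fun x => congr($(sq.w) x)
  haveI : Algebra.IsPushout B K G H := CommRingCat.isPushout_iff_isPushout.1 sq.flip
  haveI : Algebra.FormallyUnramified K H := h
  exact (KaehlerDifferential.tensorKaehlerEquivBase B K G H).toEquiv.subsingleton

end Groth.L16.EtaleFibre
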